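import Mathlib
import Cfsg.Agent.Lib.PresOm.OmLinks
import Cfsg.Agent.Lib.Sporadic.Stem

/-!
# Central extensions of `Ω⁺_{2n}(F)`: the lifted Levi subgroups

A central extension `σ : Γ → Ω` through which every homomorphism from `SL_n(F)` to `Ω` lifts.
The Levi subgroups twisted by permutations of the `2n` coordinates compatible with the swap are
lifted; the lifts of root elements do not depend on the twist since they are commutators.
-/

set_option autoImplicit false
set_option linter.unusedSectionVars false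
set_option linter.unusedSimpArgs false

namespace Cfsg.Agent.Lib.SpinD

open Equiv Matrix Matrix.SpecialLinearGroup
open scoped MatrixGroups commutatorElement
open Cfsg.Agent.Lib.Steinberg.Family Cfsg.Agent.Lib.Steinberg.LinearStem
open Cfsg.Agent.Lib.PresSL.Real
open Cfsg.Agent.Lib.PresOm.RealOm
open Cfsg.Agent.Lib.ChevIso
open Cfsg.Agent.Lib.Sporadic.Stem

variable {n : ℕ} {F : Type*} [Field F]

local notation "Ipn" => OmegaPlus.Ip n

/-- Permutations compatible with the swap. -/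
def Sw (π : Perm Ipn) : Prop := ∀ k : Ipn, π k.swap = (π k).swap

theorem Sw.one : Sw (1 : Perm Ipn) := fun _ => rfl

theorem Sw.mul {π ρ : Perm Ipn} (h : Sw π) (h' : Sw ρ) : Sw (π * ρ) := fun k => by
  rw [Perm.mul_apply, h', h, Perm.mul_apply]

theorem Sw.sg (a : Fin n) : Sw (sg a) := fun k => sg_swap a k

open scoped _root_.Classical in
/-- Root elements, as a total function. -/
noncomputable def Yt (u v : Ipn) (t : F) : GL Ipn F :=
  if h : OmegaPlus.Valid u v then OmegaPlus.Y h t else 1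

theorem Yt_of {u v : Ipn} (h : OmegaPlus.Valid u v) (t : F) : Yt u v t = OmegaPlus.Y h t := by
  unfold Yt
  rw [dif_pos h]

theorem cj_Fl_Yt {π : Perm Ipn} (hπ : Sw π) {u v : Ipn} (h : OmegaPlus.Valid u v) (t : F) :
    cj (Fl π) (Yt u v t) = Yt (π u) (π v) t := by
  rw [Yt_of h, cj_Fl_Y hπ h t, Yt_of]

theorem valid_of_Sw {π : Perm Ipn} (hπ : Sw π) {u v : Ipn} (h : OmegaPlus.Valid u v) :
    OmegaPlus.Valid (π u) (π v) :=
  ⟨fun h' => h.ne1 (π.injective h'), fun h' => h.ne2 (π.injective (by rw [h', hπ]))⟩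

theorem Yt_bar {u v : Ipn} (h : OmegaPlus.Valid u v) (t : F) : Yt u v t = Yt v.swap u.swap (-t) := by
  rw [Yt_of h, Yt_of h.swap]
  exact Y_bar h t

theorem Yt_mem {u v : Ipn} (h : OmegaPlus.Valid u v) (t : F) : Yt u v t ∈ OmegaPlus.Om' n F := by
  rw [Yt_of h]
  exact OmegaPlus.Y_mem h t

/-- The twisted Levi embedding. -/
noncomputable def lvP (π : Perm Ipn) : SpecialLinearGroup (Fin n) F →* GL Ipn F :=
  (MulAut.conj (Fl π : GL Ipn F)).toMonoidHom.comp lv

theorem lvP_apply (π : Perm Ipn) (M : SpecialLinearGroup (Fin n) F) :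
    lvP π M = cj (Fl π) (lv M) := rfl

theorem lvP_y {π : Perm Ipn} (hπ : Sw π) {i j : Fin n} (hij : i ≠ j) (t : F) :
    lvP π ((X (Fin n) F).y i j t) = Yt (π (.inl i)) (π (.inl j)) t := by
  rw [lvP_apply, lv_y hij (valid_ll hij), ← Yt_of (valid_ll hij), cj_Fl_Yt hπ (valid_ll hij)]

variable [Fintype F]

theorem lvP_mem {π : Perm Ipn} (hπ : Sw π) (M : SpecialLinearGroup (Fin n) F) :
    lvP π M ∈ OmegaPlus.Om' n F := by
  have h1 : (⊤ : Subgroup (SpecialLinearGroup (Fin n) F)) ≤ (OmegaPlus.Om' n F).comap (lvP π) := by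
    rw [← Cfsg.Agent.Lib.Linalg.Transvection.closure_transvections, Subgroup.closure_le]
    rintro _ ⟨i, j, hij, t, rfl⟩
    show lvP π (SpecialLinearGroup.transvection hij t) ∈ OmegaPlus.Om' n F
    rw [← X_y hij, lvP_y hπ hij]
    exact Yt_mem (valid_of_Sw hπ (valid_ll hij)) t
  exact h1 (Subgroup.mem_top M)

/-- A central extension of `Ω` to which every homomorphism from `SL_n(F)` lifts. -/
structure SC (n : ℕ) (F : Type*) [Field F] [Fintype F] (Γ : Type*) [Group Γ] where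
  σ : Γ →* GL (OmegaPlus.Ip n) F
  hk : σ.ker ≤ Subgroup.center Γ
  hm : ∀ x, σ x ∈ OmegaPlus.Om' n F
  hs : ∀ g ∈ OmegaPlus.Om' n F, ∃ x, σ x = g
  hl : ∀ f : SpecialLinearGroup (Fin n) F →* GL (OmegaPlus.Ip n) F, (∀ M, f M ∈ OmegaPlus.Om' n F) →
    ∃ ψ : SpecialLinearGroup (Fin n) F →* Γ, ∀ M, σ (ψ M) = f M

namespace SC

variable {Γ : Type*} [Group Γ] (C : SC n F Γ)

theorem mem_center {x : Γ} (h : C.σ x = 1) : x ∈ Subgroup.center Γ := C.hk h

theorem cm_congr {a a' b b' : Γ} (ha : C.σ a = C.σ a') (hb : C.σ b = C.σ b') : cm a b = cm a' b' := by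
  have h1 : a⁻¹ * a' ∈ Subgroup.center Γ := C.mem_center (by rw [map_mul, map_inv, ha, inv_mul_cancel])
  have h2 : b⁻¹ * b' ∈ Subgroup.center Γ := C.mem_center (by rw [map_mul, map_inv, hb, inv_mul_cancel])
  have e1 : a' = a * (a⁻¹ * a') := by group
  have e2 : b' = b * (b⁻¹ * b') := by group
  rw [e1, e2, cm_mul_central_left h1, cm_mul_central_right h2]

/-- The lift of a twisted Levi embedding. -/
noncomputable def psi {π : Perm Ipn} (hπ : Sw π) : SpecialLinearGroup (Fin n) F →* Γ :=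
  Classical.choose (C.hl (lvP π) (lvP_mem hπ))

theorem psi_spec {π : Perm Ipn} (hπ : Sw π) (M : SpecialLinearGroup (Fin n) F) :
    C.σ (C.psi hπ M) = lvP π M :=
  Classical.choose_spec (C.hl (lvP π) (lvP_mem hπ)) M

theorem psi_y {π : Perm Ipn} (hπ : Sw π) {i j : Fin n} (hij : i ≠ j) (t : F) :
    C.σ (C.psi hπ ((X (Fin n) F).y i j t)) = Yt (π (.inl i)) (π (.inl j)) t := by
  rw [psi_spec, lvP_y hπ hij]

/-- The commutator formula in a lifted Levi subgroup. -/
theorem psi_comm {π : Perm Ipn} (hπ : Sw π) {i j m : Fin n} (him : i ≠ m) (hmj : m ≠ j) (hij : i ≠ j)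
    (s t : F) : C.psi hπ ((X (Fin n) F).y i j (s * t)) =
      cm (C.psi hπ ((X (Fin n) F).y i m s)) (C.psi hπ ((X (Fin n) F).y m j t)) := by
  rw [← (X (Fin n) F).comm i m j him hmj hij s t, cm]
  simp only [map_mul, map_inv]

/-- The lift of a root element is moved by the lift of a permutation as expected. -/
theorem conj_psi {g : Γ} {ρ π π' : Perm Ipn} (hρ : Sw ρ) (hg : C.σ g = Fl ρ) (hπ : Sw π) (hπ' : Sw π')
    {i j m : Fin n} (him : i ≠ m) (hmj : m ≠ j) (hij : i ≠ j)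
    (hi : ρ (π (.inl i)) = π' (.inl i)) (hj : ρ (π (.inl j)) = π' (.inl j))
    (hm : ρ (π (.inl m)) = π' (.inl m)) (t : F) :
    g * C.psi hπ ((X (Fin n) F).y i j t) * g⁻¹ = C.psi hπ' ((X (Fin n) F).y i j t) := by
  have e : t = t * 1 := (mul_one t).symm
  rw [e, psi_comm C hπ him hmj hij, psi_comm C hπ' him hmj hij, cm_conj]
  refine C.cm_congr ?_ ?_
  · rw [map_mul, map_mul, map_inv, hg, psi_y C hπ him, psi_y C hπ' him, ← hi, ← hm]
    exact cj_Fl_Yt hρ (valid_of_Sw hπ (valid_ll him)) t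
  · rw [map_mul, map_mul, map_inv, hg, psi_y C hπ hmj, psi_y C hπ' hmj, ← hj, ← hm]
    exact cj_Fl_Yt hρ (valid_of_Sw hπ (valid_ll hmj)) 1

/-- The lifts of a root element in two twisted Levi subgroups agree when a third point is common. -/
theorem psi_eq {π π' : Perm Ipn} (hπ : Sw π) (hπ' : Sw π')
    {i j m : Fin n} (him : i ≠ m) (hmj : m ≠ j) (hij : i ≠ j)
    (hi : π (.inl i) = π' (.inl i)) (hj : π (.inl j) = π' (.inl j))
    (hm : π (.inl m) = π' (.inl m)) (t : F) :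
    C.psi hπ ((X (Fin n) F).y i j t) = C.psi hπ' ((X (Fin n) F).y i j t) := by
  have := C.conj_psi (g := 1) (ρ := 1) Sw.one (by simp) hπ hπ' him hmj hij hi hj hm t
  simpa using this

/-- The lift of a root element in terms of the opposite points. -/
theorem psi_bar {π π' : Perm Ipn} (hπ : Sw π) (hπ' : Sw π')
    {i j m i' j' m' : Fin n} (him : i ≠ m) (hmj : m ≠ j) (hij : i ≠ j)
    (him' : i' ≠ m') (hmj' : m' ≠ j') (hij' : i' ≠ j')
    (hi : π' (.inl i') = (π (.inl j)).swap) (hj : π' (.inl j') = (π (.inl i)).swap)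
    (hm : π' (.inl m') = (π (.inl m)).swap) (t : F) :
    C.psi hπ ((X (Fin n) F).y i j t) = C.psi hπ' ((X (Fin n) F).y i' j' (-t)) := by
  have e : t = t * 1 := (mul_one t).symm
  have v1 := valid_of_Sw hπ (valid_ll him)
  have v2 := valid_of_Sw hπ (valid_ll hmj)
  have h1 : C.σ (C.psi hπ ((X (Fin n) F).y i m t)) = C.σ (C.psi hπ' ((X (Fin n) F).y m' j' (-t))) := by
    rw [psi_y C hπ him, psi_y C hπ' hmj', hm, hj]
    exact Yt_bar v1 t
  have h2 : C.σ (C.psi hπ ((X (Fin n) F).y m j 1)) = C.σ (C.psi hπ' ((X (Fin n) F).y i' m' (-1))) := by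
    rw [psi_y C hπ hmj, psi_y C hπ' him', hm, hi]
    exact Yt_bar v2 1
  have h3 : C.psi hπ' ((X (Fin n) F).y i' j' (-t)) =
      (C.psi hπ' ((X (Fin n) F).y i' j' t))⁻¹ := by
    rw [(X (Fin n) F).y_neg hij', map_inv]
  have h4 : C.psi hπ' ((X (Fin n) F).y i' j' t) =
      cm (C.psi hπ' ((X (Fin n) F).y i' m' (-1))) (C.psi hπ' ((X (Fin n) F).y m' j' (-t))) := by
    rw [← psi_comm C hπ' him' hmj' hij']
    congr 2
    ring
  rw [h3, h4, cm_inv]
  nth_rw 1 [e]
  rw [psi_comm C hπ him hmj hij]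
  exact C.cm_congr h1 h2

end SC

end Cfsg.Agent.Lib.SpinD
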