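import Mathlib
import Cfsg.Agent.Lib.SpinD.Charts

/-!
# Central extensions of `Ω⁺_{2n}(F)`: the relations of the double flip
-/

set_option autoImplicit false
set_option linter.unusedSectionVars false
set_option linter.unusedSimpArgs false

namespace Cfsg.Agent.Lib.SpinD

open Equiv Matrix Matrix.SpecialLinearGroup
open scoped MatrixGroups commutatorElement
open Cfsg.Agent.Lib.Steinberg.Family Cfsg.Agent.Lib.Steinberg.LinearStem
open Cfsg.Agent.Lib.PresSL.Real
open Cfsg.Agent.Lib.PresOm.RealOm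
open Cfsg.Agent.Lib.PresSp (IsMono WW isMono_WW WW_eq Cz cj_map cj_cj)
open Cfsg.Agent.Lib.ChevIso
open Cfsg.Agent.Lib.Sporadic.Stem

variable {n : ℕ} {F : Type*} [Field F] [Fintype F]

local notation "Ipn" => OmegaPlus.Ip n

omit [Fintype F] in
theorem tf_sq' {a b : Fin n} (hab : a ≠ b) : (tf a b : GL Ipn F) * tf a b = 1 := by
  have hs : sg b = sg a * sg b * (sg a)⁻¹ := by
    rw [sg, sg, ← Equiv.swap_apply_apply]
    show Equiv.swap _ _ = Equiv.swap (sg a (.inl b)) (sg a (.inr b))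
    rw [sg_inl_ne hab.symm, sg_inr_ne hab.symm]
  have hc : sg b * sg a = sg a * sg b := by
    nth_rw 1 [hs]
    group
  rw [tf_eq, ← map_mul]
  have e : (sg a * sg b) * (sg a * sg b) = (1 : Perm Ipn) := by
    calc (sg a * sg b) * (sg a * sg b) = sg a * (sg b * sg a) * sg b := by group
      _ = sg a * (sg a * sg b) * sg b := by rw [hc]
      _ = (sg a * sg a) * (sg b * sg b) := by group
      _ = 1 := by rw [sg_mul_self, sg_mul_self, one_mul]
  rw [e, map_one]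

namespace SC

variable {Γ : Type*} [Group Γ] (C : SC n F Γ)

/-- The untwisted Levi lift. -/
noncomputable abbrev ps : SpecialLinearGroup (Fin n) F →* Γ := C.psi Sw.one

/-- The lift of the chart flipping `a`. -/
noncomputable abbrev pa (a : Fin n) : SpecialLinearGroup (Fin n) F →* Γ := C.psi (Sw.sg a)

/-- A lift of a permutation fixing a root element commutes with it. -/
theorem rel_C_y {x : Γ} {ρ : Perm Ipn} (hρ : Sw ρ) (hx : C.σ x = Fl ρ) {a b i j : Fin n}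
    (hab : a ≠ b) (hia : i ≠ a) (hib : i ≠ b) (hja : j ≠ a) (hjb : j ≠ b) (hij : i ≠ j)
    (h_i : ρ (.inl i) = .inl i) (h_j : ρ (.inl j) = .inl j) (h_a : ρ (.inl a) = .inr a) (t : F) :
    x * C.ps ((X (Fin n) F).y i j t) * x⁻¹ = C.ps ((X (Fin n) F).y i j t) := by
  rw [C.conj_psi hρ hx Sw.one (Sw.sg a) (m := a) hia hja.symm hij
    (by rw [Perm.one_apply, h_i, sg_inl_ne hia]) (by rw [Perm.one_apply, h_j, sg_inl_ne hja])
    (by rw [Perm.one_apply, h_a, sg_inl_same])]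
  exact C.psi_eq (Sw.sg a) Sw.one (m := b) hib hjb.symm hij (by rw [sg_inl_ne hia]; rfl)
    (by rw [sg_inl_ne hja]; rfl) (by rw [sg_inl_ne hab.symm]; rfl) t

/-- A lift of a permutation flipping `a`, `b` exchanges the opposite root elements. -/
theorem rel_S_y {x : Γ} {ρ : Perm Ipn} (hρ : Sw ρ) (hx : C.σ x = Fl ρ) {a b m m₂ : Fin n}
    (hab : a ≠ b) (ham : a ≠ m) (hbm : b ≠ m) (ham₂ : a ≠ m₂) (hbm₂ : b ≠ m₂) (hmm₂ : m ≠ m₂)
    (h_a : ρ (.inl a) = .inr a) (h_b : ρ (.inl b) = .inr b) (h_m : ρ (.inl m) = .inl m) (t : F) :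
    x * C.ps ((X (Fin n) F).y a b t) * x⁻¹ = C.ps ((X (Fin n) F).y b a (-t)) := by
  rw [C.conj_psi hρ hx Sw.one hρ (m := m) ham hbm.symm hab rfl rfl rfl]
  rw [C.psi_bar hρ (Sw.sg m) (i := a) (j := b) (m := m) (i' := b) (j' := a) (m' := m) ham hbm.symm hab hbm
    ham.symm hab.symm (by rw [h_b, sg_inl_ne hbm]; rfl) (by rw [h_a, sg_inl_ne ham]; rfl)
    (by rw [h_m, sg_inl_same]; rfl) t]
  exact C.psi_eq (Sw.sg m) Sw.one (m := m₂) hbm₂ ham₂.symm hab.symm (by rw [sg_inl_ne hbm]; rfl)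
    (by rw [sg_inl_ne ham]; rfl) (by rw [sg_inl_ne hmm₂.symm]; rfl) _

/-- The commutation of far away root elements, one of them moved by a flip. -/
theorem rel_R4_y {x : Γ} {ρ : Perm Ipn} (hρ : Sw ρ) (hx : C.σ x = Fl ρ) {a b c d m : Fin n}
    (hab : a ≠ b) (hac : a ≠ c) (had : a ≠ d) (hbc : b ≠ c) (hbd : b ≠ d) (hcd : c ≠ d) (hmc : c ≠ m)
    (ham : a ≠ m)
    (h_c : ρ (.inl c) = .inl c) (h_a : ρ (.inl a) = .inr a) (h_m : ρ (.inl m) = .inl m) (s t : F) :
    C.ps ((X (Fin n) F).y b d s) * (x * C.ps ((X (Fin n) F).y c a t) * x⁻¹) =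
      (x * C.ps ((X (Fin n) F).y c a t) * x⁻¹) * C.ps ((X (Fin n) F).y b d s) := by
  rw [C.conj_psi hρ hx Sw.one (Sw.sg a) (m := m) hmc ham.symm hac.symm
    (by rw [Perm.one_apply, h_c, sg_inl_ne hac.symm])
    (by rw [Perm.one_apply, h_a, sg_inl_same]) (by rw [Perm.one_apply, h_m, sg_inl_ne ham.symm])]
  rw [C.psi_eq Sw.one (Sw.sg a) (m := c) (i := b) (j := d) hbc hcd hbd (by rw [sg_inl_ne hab.symm]; rfl)
    (by rw [sg_inl_ne had.symm]; rfl) (by rw [sg_inl_ne hac.symm]; rfl) s]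
  rw [← map_mul, ← map_mul, (X (Fin n) F).comm' b d c a hbd hac.symm hcd.symm hab.symm]

/-- Root elements sharing a point and with opposite second points commute. -/
theorem Yt_comm {c a : Fin n} (hca : c ≠ a) (s t : F) :
    Yt (.inl c : Ipn) (.inl a) s * Yt (.inl c : Ipn) (.inr a) t =
      Yt (.inl c : Ipn) (.inr a) t * Yt (.inl c : Ipn) (.inl a) s := by
  have h1 : OmegaPlus.Valid (.inl c : Ipn) (.inl a) := valid_ll hca
  have h2 : OmegaPlus.Valid (.inl c : Ipn) (.inr a) := OmegaPlus.valid_of_ind_ne hca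
  rw [Yt_of h1, Yt_of h2]
  refine Y_comm_of _ _ ?_ _ _
  have n1 : (.inl c : Ipn) ≠ .inr a := by simp
  have n2 : (.inl c : Ipn) ≠ .inl a := by simp [hca]
  have n3 : (.inr a : Ipn) ≠ .inl a := by simp
  have n4 : (.inr a : Ipn) ≠ .inr c := by simp [hca.symm]
  have n5 : (.inl a : Ipn) ≠ .inr c := by simp
  have n6 : (.inr c : Ipn) ≠ .inl c := by simp
  simp only [OmegaPlus.bM, Sum.swap_inl, Sum.swap_inr, sub_mul, mul_sub, Matrix.single_mul_single_same,
    Matrix.single_mul_single_of_ne, n1, n2, n3, n4, n5, n6, n1.symm, n2.symm, n3.symm, n4.symm, n5.symm, n6.symm, ne_eq,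
    not_false_eq_true, one_mul, sub_zero, zero_sub, neg_zero]

/-- The element measuring the failure of the commutation. -/
noncomputable def yy (c a : Fin n) (s t : F) : Γ :=
  cm (C.ps ((X (Fin n) F).y c a s)) (C.pa a ((X (Fin n) F).y c a t))

theorem yy_mem_center {c a : Fin n} (hca : c ≠ a) (s t : F) : C.yy c a s t ∈ Subgroup.center Γ := by
  apply C.mem_center
  simp only [yy, cm, map_mul, map_inv]
  rw [C.psi_y Sw.one hca, C.psi_y (Sw.sg a) hca, sg_inl_ne hca, sg_inl_same]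
  simp only [Perm.one_apply]
  rw [Yt_comm hca]
  group

/-- Conjugating by a double flip inverts the commutator. -/
theorem yy_sq {c a b m : Fin n} (hca : c ≠ a) (hab : a ≠ b) (hcb : c ≠ b) (hcm : c ≠ m) (ham : a ≠ m) (hbm : b ≠ m)
    (hx : ∃ x : Γ, C.σ x = tf a b) : C.yy c a 1 1 * C.yy c a 1 1 = 1 := by
  obtain ⟨x, hx⟩ := hx
  have hρ : Sw (sg a * sg b) := (Sw.sg a).mul (Sw.sg b)
  have hx' : C.σ x = Fl (sg a * sg b) := by rw [hx, tf_eq]
  have e1 : x * C.ps ((X (Fin n) F).y c a 1) * x⁻¹ = C.pa a ((X (Fin n) F).y c a 1) :=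
    C.conj_psi hρ hx' Sw.one (Sw.sg a) (m := m) hcm ham.symm hca
      (by rw [Perm.one_apply, pi_ll hca hcb, sg_inl_ne hca])
      (by rw [Perm.one_apply, pi_l1 hab, sg_inl_same])
      (by rw [Perm.one_apply, pi_ll ham.symm hbm.symm, sg_inl_ne ham.symm]) 1
  have hsq : x * x ∈ Subgroup.center Γ := by
    apply C.mem_center
    rw [map_mul, hx, tf_sq' hab]
  have e2 : x * C.pa a ((X (Fin n) F).y c a 1) * x⁻¹ = C.ps ((X (Fin n) F).y c a 1) := by
    rw [← e1]
    calc x * (x * C.ps ((X (Fin n) F).y c a 1) * x⁻¹) * x⁻¹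
        = (x * x) * C.ps ((X (Fin n) F).y c a 1) * (x * x)⁻¹ := by group
      _ = _ := by
        rw [← Subgroup.mem_center_iff.mp hsq, mul_assoc, mul_inv_cancel, mul_one]
  have hc := C.yy_mem_center hca (1 : F) 1
  have h3 : x * C.yy c a 1 1 * x⁻¹ = C.yy c a 1 1 := conj_central x hc
  have h4 : x * C.yy c a 1 1 * x⁻¹ = (C.yy c a 1 1)⁻¹ := by
    rw [yy, cm_conj, e1, e2, cm_inv]
  have h5 : C.yy c a 1 1 = (C.yy c a 1 1)⁻¹ := h3.symm.trans h4
  calc C.yy c a 1 1 * C.yy c a 1 1 = C.yy c a 1 1 * (C.yy c a 1 1)⁻¹ := by rw [← h5]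
    _ = 1 := mul_inv_cancel _

/-- Additivity of the commutator in the first variable. -/
theorem yy_nat {c a : Fin n} (hca : c ≠ a) (k : ℕ) : C.yy c a (k : F) 1 = (C.yy c a 1 1) ^ k := by
  induction k with
  | zero =>
    simp only [yy, Nat.cast_zero, pow_zero]
    rw [(X (Fin n) F).y_zero hca, map_one]
    simp [cm]
  | succ k ih =>
    have e : ((k + 1 : ℕ) : F) = (k : F) + 1 := by push_cast; ring
    have h2 := C.yy_mem_center hca (1 : F) 1
    have h3 : C.yy c a ((k : F) + 1) 1 = C.yy c a 1 1 * C.yy c a (k : F) 1 := by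
      simp only [yy]
      rw [(X (Fin n) F).add c a hca, map_mul, cm_mul_left h2]
    rw [e, h3, ih, pow_succ']

/-- The commutator is trivial in odd characteristic. -/
theorem yy_eq_one_odd (h2 : (2 : F) ≠ 0) {c a b m : Fin n} (hca : c ≠ a) (hab : a ≠ b) (hcb : c ≠ b) (hcm : c ≠ m)
    (ham : a ≠ m) (hbm : b ≠ m) (hx : ∃ x : Γ, C.σ x = tf a b) : C.yy c a 1 1 = 1 := by
  obtain ⟨p, hp⟩ := CharP.exists F
  haveI := hp
  have hpp : p.Prime := (CharP.char_is_prime_or_zero F p).resolve_right (fun h => by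
    subst h
    exact CharP.char_ne_zero_of_finite F 0 rfl)
  have h3 : C.yy c a 1 1 ^ p = 1 := by
    rw [← C.yy_nat hca, CharP.cast_eq_zero F p]
    simp only [yy]
    rw [(X (Fin n) F).y_zero hca, map_one]
    simp [cm]
  have h4 : C.yy c a 1 1 ^ 2 = 1 := by
    rw [pow_two]
    exact C.yy_sq hca hab hcb hcm ham hbm hx
  have h5 : ¬ p ∣ 2 := fun hd => h2 (by
    have := (CharP.cast_eq_zero_iff F p 2).2 hd
    simpa using this)
  have h6 : Nat.Coprime p 2 := (Nat.Prime.coprime_iff_not_dvd hpp).2 h5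
  have h7 := pow_gcd_eq_one.2 ⟨h3, h4⟩
  rw [Nat.Coprime.gcd_eq_one h6] at h7
  simpa using h7

/-! ### Characteristic two -/

theorem Yt_comm2 {c a : Fin n} (hca : c ≠ a) (s t : F) :
    Yt (.inl c : Ipn) (.inl a) s * Yt (.inr a : Ipn) (.inl c) t =
      Yt (.inr a : Ipn) (.inl c) t * Yt (.inl c : Ipn) (.inl a) s := by
  have h1 : OmegaPlus.Valid (.inl c : Ipn) (.inl a) := valid_ll hca
  have h2 : OmegaPlus.Valid (.inr a : Ipn) (.inl c) := OmegaPlus.valid_of_ind_ne hca.symm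
  rw [Yt_of h1, Yt_of h2]
  refine Y_comm_of _ _ ?_ _ _
  have n1 : (.inl c : Ipn) ≠ .inr a := by simp
  have n2 : (.inl c : Ipn) ≠ .inl a := by simp [hca]
  have n3 : (.inr a : Ipn) ≠ .inl a := by simp
  have n4 : (.inr a : Ipn) ≠ .inr c := by simp [hca.symm]
  have n5 : (.inl a : Ipn) ≠ .inr c := by simp
  have n6 : (.inr c : Ipn) ≠ .inl c := by simp
  simp only [OmegaPlus.bM, Sum.swap_inl, Sum.swap_inr, sub_mul, mul_sub, Matrix.single_mul_single_same,
    Matrix.single_mul_single_of_ne, n1, n2, n3, n4, n5, n6, n1.symm, n2.symm, n3.symm, n4.symm, n5.symm, n6.symm, ne_eq,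
    not_false_eq_true, one_mul, sub_zero, zero_sub, neg_zero, neg_neg]

/-- In characteristic two the Weyl elements of the Levi subgroup are permutation matrices. -/
theorem lv_WW_char2 (h2 : (2 : F) = 0) {c a : Fin n} (hca : c ≠ a) :
    (lv (WW c a) : GL Ipn F) = Fl (Equiv.sumCongr (swap c a) (swap c a)) := by
  have hneg : (-1 : F) = 1 := by linear_combination -h2
  have hm := isMono_lv (isMono_WW (F := F) hca)
  apply OmegaPlus.gl_ext
  intro k
  rw [hm.act, Fl_e]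
  have : Sum.elim (fun j => if j = c then (-1 : F) else 1) (fun j => if j = c then (-1 : F) else 1) k = 1 := by
    rcases k with j | j <;> simp [hneg]
  rw [this, one_smul]

theorem flip_char2 (h2 : (2 : F) = 0) {c a : Fin n} (hca : c ≠ a) :
    (lv (WW c a) : GL Ipn F) * lvP (sg a) (WW c a) = Fl (sg c * sg a) := by
  rw [lvP_apply, lv_WW_char2 h2 hca, cj]
  set P : Perm Ipn := Equiv.sumCongr (swap c a) (swap c a) with hP
  have hPP : P * P = 1 := by
    ext k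
    rcases k with j | j <;> simp [hP]
  have hPi : P⁻¹ = P := inv_eq_of_mul_eq_one_left hPP
  have e : P * sg a * P⁻¹ = sg c := by
    rw [sg, ← Equiv.swap_apply_apply, sg]
    simp [hP]
  have e' : P * sg a * P = sg c := by rw [← e, hPi]
  have hsa : (sg a : Perm Ipn)⁻¹ = sg a := sg_inv a
  calc (Fl P : GL Ipn F) * (Fl (sg a) * Fl P * (Fl (sg a))⁻¹)
      = Fl (P * sg a * P * (sg a)⁻¹) := by simp only [map_mul, map_inv]; group
    _ = _ := by rw [e', hsa]

/-- A commutator with a product of elements commuting modulo the kernel. -/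
theorem cm_conj_right {A g h : Γ} (hg : C.σ A * C.σ g = C.σ g * C.σ A) (hh : C.σ A * C.σ h = C.σ h * C.σ A) :
    cm A (g * h * g⁻¹) = cm A h := by
  have cg : cm A g ∈ Subgroup.center Γ := C.mem_center (by
    simp only [cm, map_mul, map_inv]
    rw [hg]
    group)
  have ch : cm A h ∈ Subgroup.center Γ := C.mem_center (by
    simp only [cm, map_mul, map_inv]
    rw [hh]
    group)
  have e1 : A * g * A⁻¹ = cm A g * g := by simp only [cm]; group
  have e2 : A * h * A⁻¹ = cm A h * h := by simp only [cm]; group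
  have e3 : cm A (g * h * g⁻¹) = (A * g * A⁻¹) * (A * h * A⁻¹) * (A * g * A⁻¹)⁻¹ * (g * h * g⁻¹)⁻¹ := by
    simp only [cm]; group
  rw [e3, e1, e2]
  have hz1 := Subgroup.mem_center_iff.mp cg
  have hz2 := Subgroup.mem_center_iff.mp ch
  calc cm A g * g * (cm A h * h) * (cm A g * g)⁻¹ * (g * h * g⁻¹)⁻¹
      = cm A g * (g * cm A h) * h * g⁻¹ * (cm A g)⁻¹ * (g * h * g⁻¹)⁻¹ := by group
    _ = cm A g * (cm A h * g) * h * g⁻¹ * (cm A g)⁻¹ * (g * h * g⁻¹)⁻¹ := by rw [hz2 g]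
    _ = cm A h * cm A g * (g * h * g⁻¹) * (cm A g)⁻¹ * (g * h * g⁻¹)⁻¹ := by
        rw [← hz2 (cm A g)]; group
    _ = cm A h * (cm A g * ((g * h * g⁻¹) * (cm A g)⁻¹ * (g * h * g⁻¹)⁻¹)) := by group
    _ = cm A h := by
        have hi : (cm A g)⁻¹ ∈ Subgroup.center Γ := inv_mem cg
        rw [Subgroup.mem_center_iff.mp hi (g * h * g⁻¹)]
        group

/-- The commutator is trivial in characteristic two. -/
theorem yy_eq_one_even (h2 : (2 : F) = 0) {c a b m m₂ : Fin n} (hca : c ≠ a) (hab : a ≠ b) (hcb : c ≠ b) (hcm : c ≠ m)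
    (ham : a ≠ m) (hbm : b ≠ m) (hcm₂ : c ≠ m₂) (ham₂ : a ≠ m₂) (hmm₂ : m ≠ m₂) (hx : ∃ x : Γ, C.σ x = tf a b) :
    C.yy c a 1 1 = 1 := by
  have hsq := C.yy_sq hca hab hcb hcm ham hbm hx
  set A := C.ps ((X (Fin n) F).y c a 1) with hA
  set v := C.pa a ((X (Fin n) F).y c a 1) with hv
  set v' := C.pa a ((X (Fin n) F).y a c (-1)) with hv'
  set Ah := C.pa a (WW c a) with hAh
  have hz : C.yy c a 1 1 = cm A v := rfl
  have eAh : Ah = v * v' * v := by
    rw [hAh, WW, SFam.w, inv_one, map_mul, map_mul]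
  have eV : Ah * v * Ah⁻¹ = v' := by
    have h1 := (X (Fin n) F).cj_w_ij hca hcm ((Ne.symm ham).symm) one_ne_zero (1 : F)
    simp only [inv_one, one_pow, mul_one] at h1
    rw [hv', ← h1, hAh, hv, cj, map_mul, map_mul, map_inv]
  have sA : C.σ A = Yt (.inl c : Ipn) (.inl a) 1 := by
    rw [hA, C.psi_y Sw.one hca]
    rfl
  have sv : C.σ v = Yt (.inl c : Ipn) (.inr a) 1 := by
    rw [hv, C.psi_y (Sw.sg a) hca, sg_inl_ne hca, sg_inl_same]
  have sv' : C.σ v' = Yt (.inr a : Ipn) (.inl c) (-1) := by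
    rw [hv', C.psi_y (Sw.sg a) hca.symm, sg_inl_ne hca, sg_inl_same]
  have c1 : C.σ A * C.σ v = C.σ v * C.σ A := by rw [sA, sv, Yt_comm hca]
  have c2 : C.σ A * C.σ v' = C.σ v' * C.σ A := by rw [sA, sv', Yt_comm2 hca]
  have c3 : C.σ A * C.σ Ah = C.σ Ah * C.σ A := by
    rw [eAh, map_mul, map_mul]
    calc C.σ A * (C.σ v * C.σ v' * C.σ v) = (C.σ A * C.σ v) * C.σ v' * C.σ v := by group
      _ = C.σ v * (C.σ A * C.σ v') * C.σ v := by rw [c1]; group
      _ = C.σ v * C.σ v' * (C.σ A * C.σ v) := by rw [c2]; group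
      _ = _ := by rw [c1]; group
  have mc : ∀ {g : Γ}, C.σ A * C.σ g = C.σ g * C.σ A → cm A g ∈ Subgroup.center Γ := by
    intro g hg
    apply C.mem_center
    simp only [cm, map_mul, map_inv]
    rw [hg]
    group
  have f1 : cm A v' = cm A v := by
    rw [← eV]
    exact C.cm_conj_right c3 c1
  have f2 : cm A Ah = cm A v * cm A v * cm A v := by
    rw [eAh, cm_mul_right (mc c1), cm_mul_right (mc c2), f1]
  have e4 : Ah * A * Ah⁻¹ = (cm A Ah)⁻¹ * A := by simp only [cm]; group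
  set W := C.ps (WW c a) with hW
  have sW : C.σ W = lv (WW c a) := by
    rw [hW, psi_spec, lvP_apply, map_one, cj]
    simp
  have sAh : C.σ Ah = lvP (sg a) (WW c a) := by rw [hAh, psi_spec]
  have hρ : Sw (sg c * sg a) := (Sw.sg c).mul (Sw.sg a)
  have sg₀ : C.σ (W * Ah) = Fl (sg c * sg a) := by
    rw [map_mul, sW, sAh, flip_char2 h2 hca]
  have key1 : (W * Ah) * A * (W * Ah)⁻¹ = C.psi hρ ((X (Fin n) F).y c a 1) :=
    C.conj_psi hρ sg₀ Sw.one hρ (m := m) hcm ham.symm hca rfl rfl rfl 1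
  have key2 : C.psi hρ ((X (Fin n) F).y c a 1) = C.ps ((X (Fin n) F).y a c (-1)) := by
    have n1 : (sg c * sg a) (.inl c : Ipn) = .inr c := pi_l1 hca
    have n2 : (sg c * sg a) (.inl a : Ipn) = .inr a := pi_l2 hca
    have n3 : (sg c * sg a) (.inl m : Ipn) = .inl m := pi_ll hcm.symm ham.symm
    rw [C.psi_bar hρ (Sw.sg m) (i := c) (j := a) (m := m) (i' := a) (j' := c) (m' := m) hcm ham.symm hca ham
      hcm.symm hca.symm (by rw [n2, sg_inl_ne ham]; rfl) (by rw [n1, sg_inl_ne hcm]; rfl)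
      (by rw [n3, sg_inl_same]; rfl) 1]
    exact C.psi_eq (Sw.sg m) Sw.one (m := m₂) ham₂ hcm₂.symm hca.symm (by rw [sg_inl_ne ham]; rfl)
      (by rw [sg_inl_ne hcm]; rfl) (by rw [sg_inl_ne hmm₂.symm]; rfl) _
  have key3 : W * A * W⁻¹ = C.ps ((X (Fin n) F).y a c (-1)) := by
    have h1 := (X (Fin n) F).cj_w_ij hca hcm ((Ne.symm ham).symm) one_ne_zero (1 : F)
    simp only [inv_one, one_pow, mul_one] at h1
    rw [← h1, hW, hA, cj, map_mul, map_mul, map_inv]
  have key4 : (W * Ah) * A * (W * Ah)⁻¹ = (cm A Ah)⁻¹ * C.ps ((X (Fin n) F).y a c (-1)) := by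
    have hcz : (cm A Ah)⁻¹ ∈ Subgroup.center Γ := inv_mem (mc c3)
    calc (W * Ah) * A * (W * Ah)⁻¹ = W * (Ah * A * Ah⁻¹) * W⁻¹ := by group
      _ = W * ((cm A Ah)⁻¹ * A) * W⁻¹ := by rw [e4]
      _ = (W * (cm A Ah)⁻¹) * A * W⁻¹ := by group
      _ = ((cm A Ah)⁻¹ * W) * A * W⁻¹ := by rw [Subgroup.mem_center_iff.mp hcz W]
      _ = (cm A Ah)⁻¹ * (W * A * W⁻¹) := by group
      _ = _ := by rw [key3]
  have key5 : (cm A Ah)⁻¹ = 1 := by
    have := key4.symm.trans (key1.trans key2)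
    exact mul_eq_right.mp this
  have key6 : cm A v * cm A v * cm A v = 1 := by
    rw [← f2]
    exact inv_eq_one.mp key5
  have key7 : C.yy c a 1 1 * C.yy c a 1 1 * C.yy c a 1 1 = 1 := key6
  rw [hsq, one_mul] at key7
  exact key7

/-- The relation R2. -/
theorem yy_eq_one {c a b m m₂ : Fin n} (hca : c ≠ a) (hab : a ≠ b) (hcb : c ≠ b) (hcm : c ≠ m)
    (ham : a ≠ m) (hbm : b ≠ m) (hcm₂ : c ≠ m₂) (ham₂ : a ≠ m₂) (hmm₂ : m ≠ m₂) (hx : ∃ x : Γ, C.σ x = tf a b) :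
    C.yy c a 1 1 = 1 := by
  by_cases h2 : (2 : F) = 0
  · exact C.yy_eq_one_even h2 hca hab hcb hcm ham hbm hcm₂ ham₂ hmm₂ hx
  · exact C.yy_eq_one_odd h2 hca hab hcb hcm ham hbm hx

end SC

end Cfsg.Agent.Lib.SpinD
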