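import Mathlib
import Cfsg.Agent.Lib.SpinD.Rel

/-!
# Central extensions of `Ω⁺_{2n}(F)`: the kernel is generated by the square of a double flip
-/

set_option autoImplicit false
set_option linter.unusedSectionVars false
set_option linter.unusedSimpArgs false

namespace Cfsg.Agent.Lib.SpinD

open Equiv Matrix Matrix.SpecialLinearGroup
open scoped MatrixGroups commutatorElement
open Cfsg.Agent.Lib.PSL2.Basic Cfsg.Agent.Lib.PresSL.Aut
open Cfsg.Agent.Lib.Steinberg.Family Cfsg.Agent.Lib.Steinberg.LinearStem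
open Cfsg.Agent.Lib.PresSL.Real
open Cfsg.Agent.Lib.PresOm.RealOm
open Cfsg.Agent.Lib.PresOm.OmLinks
open Cfsg.Agent.Lib.PresSp (IsMono WW isMono_WW WW_eq Cz cj_map cj_cj)
open Cfsg.Agent.Lib.PresSp.Links (emb emb_of_cz cz_emb)
open Cfsg.Agent.Lib.ChevIso
open Cfsg.Agent.Lib.Sporadic.Stem

/-- The formal computation with the square of a double flip. -/
theorem ada_of {Γ : Type*} [Group Γ] {a g h m D : Γ} (hg : g * g * g = 1)
    (hgh : g * g = h * m * D) (hm : m * a = a * m) (hD : D * D = 1)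
    (hDa : D * a * D⁻¹ * a⁻¹ ∈ Subgroup.center Γ) (hT : a * (g * a * g⁻¹) = h * a * h⁻¹) :
    a * ((g * g) * a * (g * g)⁻¹) * a = (g * g) * a * (g * g)⁻¹ := by
  set ζ := D * a * D⁻¹ * a⁻¹ with hζ
  have hz : ∀ x : Γ, x * ζ = ζ * x := Subgroup.mem_center_iff.mp hDa
  have e1 : D * a * D⁻¹ = ζ * a := by rw [hζ]; group
  have hDi : D⁻¹ = D := inv_eq_of_mul_eq_one_left hD
  have hζ2 : ζ * ζ = 1 := by
    have h1 : D * (D * a * D⁻¹) * D⁻¹ = a := by
      calc D * (D * a * D⁻¹) * D⁻¹ = (D * D) * a * (D⁻¹ * D⁻¹) := by group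
        _ = a := by rw [hD, hDi, hD]; group
    rw [e1] at h1
    have h2 : D * (ζ * a) * D⁻¹ = ζ * (D * a * D⁻¹) := by
      calc D * (ζ * a) * D⁻¹ = (D * ζ) * a * D⁻¹ := by group
        _ = (ζ * D) * a * D⁻¹ := by rw [hz]
        _ = _ := by group
    rw [h2, e1] at h1
    have h3 : ζ * ζ * a = a := by rw [mul_assoc]; exact h1
    exact mul_eq_right.mp h3
  have hζi : ζ⁻¹ = ζ := inv_eq_of_mul_eq_one_left hζ2
  set b := g * a * g⁻¹ with hb
  set d := g * b * g⁻¹ with hdd
  have hd2 : d = (g * g) * a * (g * g)⁻¹ := by rw [hdd, hb]; group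
  have e2 : d = ζ * (h * a * h⁻¹) := by
    rw [hd2, hgh]
    calc h * m * D * a * (h * m * D)⁻¹ = h * m * (D * a * D⁻¹) * m⁻¹ * h⁻¹ := by group
      _ = h * m * (ζ * a) * m⁻¹ * h⁻¹ := by rw [e1]
      _ = h * (m * ζ) * a * m⁻¹ * h⁻¹ := by group
      _ = h * (ζ * m) * a * m⁻¹ * h⁻¹ := by rw [hz]
      _ = (h * ζ) * (m * a) * m⁻¹ * h⁻¹ := by group
      _ = (ζ * h) * (a * m) * m⁻¹ * h⁻¹ := by rw [hz, hm]
      _ = _ := by group
  have e3 : a * b = ζ * d := by
    calc a * b = h * a * h⁻¹ := hT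
      _ = (ζ * ζ) * (h * a * h⁻¹) := by rw [hζ2, one_mul]
      _ = ζ * (ζ * (h * a * h⁻¹)) := by group
      _ = ζ * d := by rw [← e2]
  -- conjugating by `g`
  have hg3 : g * d * g⁻¹ = a := by
    rw [hd2]
    calc g * (g * g * a * (g * g)⁻¹) * g⁻¹ = (g * g * g) * a * (g * g * g)⁻¹ := by group
      _ = a := by rw [hg]; group
  have hcg : ∀ x y z : Γ, x * y = ζ * z → (g * x * g⁻¹) * (g * y * g⁻¹) = ζ * (g * z * g⁻¹) := by
    intro x y z hxy
    calc (g * x * g⁻¹) * (g * y * g⁻¹) = g * (x * y) * g⁻¹ := by group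
      _ = (g * ζ) * z * g⁻¹ := by rw [hxy]; group
      _ = (ζ * g) * z * g⁻¹ := by rw [hz]
      _ = _ := by group
  have e4 : b * d = ζ * a := by
    have := hcg a b d e3
    rwa [← hb, ← hdd, hg3] at this
  have e5 : d * a = ζ * b := by
    have := hcg b d a e4
    rwa [← hdd, hg3, ← hb] at this
  have e6 : a * d * a = d := by
    have h1 : b = ζ * (d * a) := by
      rw [e5, ← mul_assoc, hζ2, one_mul]
    have h2 : a * (ζ * (d * a)) = ζ * d := by rw [← h1]; exact e3
    have h3 : a * ζ = ζ * a := hz a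
    have h4 : ζ * (a * d * a) = ζ * d := by
      rw [← h2]
      calc ζ * (a * d * a) = (ζ * a) * (d * a) := by group
        _ = (a * ζ) * (d * a) := by rw [h3]
        _ = _ := by group
    exact mul_left_cancel h4
  rw [← hd2]
  exact e6

/-- The formal computation with the square of a double flip. -/
theorem sq_of {Γ : Type*} [Group Γ] {a g h m D : Γ} (ha : a * a ∈ Subgroup.center Γ) (hg : g * g * g = 1)
    (hgh : g * g = h * m * D) (hm : m * a = a * m) (hD : D * D = 1)
    (hDa : D * a * D⁻¹ * a⁻¹ ∈ Subgroup.center Γ) (hT : a * (g * a * g⁻¹) = h * a * h⁻¹) :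
    (a * a) * (a * a) = 1 := by
  have e6 := ada_of hg hgh hm hD hDa hT
  set d := (g * g) * a * (g * g)⁻¹ with hd
  have e7 : d * a * d⁻¹ = a⁻¹ * 1 := by
    rw [mul_one]
    have : a * (d * a * d⁻¹) = 1 := by
      calc a * (d * a * d⁻¹) = (a * d * a) * d⁻¹ := by group
        _ = 1 := by rw [e6]; group
    exact eq_inv_of_mul_eq_one_right this
  rw [mul_one] at e7
  -- `a⁻¹ = a y⁻¹`
  set y := a * a with hyy
  have e8 : a⁻¹ = a * y⁻¹ := by rw [hyy]; group
  have hyi : ∀ x : Γ, x * y⁻¹ = y⁻¹ * x := by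
    intro x
    have : y⁻¹ ∈ Subgroup.center Γ := inv_mem ha
    exact Subgroup.mem_center_iff.mp this x
  have e9 : d * a⁻¹ * d⁻¹ = a := by
    have : d * a⁻¹ * d⁻¹ = (d * a * d⁻¹)⁻¹ := by group
    rw [this, e7, inv_inv]
  have e10 : d * a⁻¹ * d⁻¹ = a * y⁻¹ * y⁻¹ := by
    rw [e8]
    calc d * (a * y⁻¹) * d⁻¹ = d * a * (y⁻¹ * d⁻¹) := by group
      _ = d * a * (d⁻¹ * y⁻¹) := by rw [hyi]
      _ = (d * a * d⁻¹) * y⁻¹ := by group
      _ = a * y⁻¹ * y⁻¹ := by rw [e7, e8]
  have e11 : a * y⁻¹ * y⁻¹ = a := e10.symm.trans e9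
  have e12 : y⁻¹ * y⁻¹ = 1 := by
    rw [mul_assoc] at e11
    exact mul_eq_left.mp e11
  have e13 : y * y = 1 := by
    have : (y * y)⁻¹ = 1 := by
      rw [← e12]
      rw [_root_.mul_inv_rev]
    exact inv_eq_one.mp this
  exact e13

section Mono

variable {ι : Type*} [Fintype ι] [DecidableEq ι] {F : Type*} [Field F]

theorem mono_eq {π π' : Perm ι} {s s' : ι → F} {M M' : SpecialLinearGroup ι F} (h : IsMono π s M)
    (h' : IsMono π' s' M') (hp : ∀ j, π j = π' j) (hs : ∀ j, s j = s' j) : M = M' := by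
  apply Subtype.ext
  ext i j
  rw [h.2, h'.2, hp, hs]

variable {a b c : ι}

/-- The sign vector of a product of two Weyl elements, on the three indices. -/
theorem WW_cube (hab : a ≠ b) (hac : a ≠ c) (hbc : b ≠ c) :
    (WW a b * WW b c) * (WW a b * WW b c) * (WW a b * WW b c) = (1 : SpecialLinearGroup ι F) := by
  have m0 := isMono_WW (F := F) hab
  have m1 := isMono_WW (F := F) hbc
  have m := m0.mul m1
  refine mono_eq ((m.mul m).mul m) IsMono.one (fun j => ?_) (fun j => ?_)
  · by_cases h1 : j = a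
    · subst h1
      simp [Perm.mul_apply, swap_apply_def, hab, hac, hbc, hab.symm, hac.symm, hbc.symm]
    by_cases h2 : j = b
    · subst h2
      simp [Perm.mul_apply, swap_apply_def, hab, hac, hbc, hab.symm, hac.symm, hbc.symm]
    by_cases h3 : j = c
    · subst h3
      simp [Perm.mul_apply, swap_apply_def, hab, hac, hbc, hab.symm, hac.symm, hbc.symm]
    simp [Perm.mul_apply, swap_apply_def, h1, h2, h3]
  · by_cases h1 : j = a
    · subst h1
      simp [Perm.mul_apply, swap_apply_def, hab, hac, hbc, hab.symm, hac.symm, hbc.symm]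
    by_cases h2 : j = b
    · subst h2
      simp [Perm.mul_apply, swap_apply_def, hab, hac, hbc, hab.symm, hac.symm, hbc.symm]
    by_cases h3 : j = c
    · subst h3
      simp [Perm.mul_apply, swap_apply_def, hab, hac, hbc, hab.symm, hac.symm, hbc.symm]
    simp [Perm.mul_apply, swap_apply_def, h1, h2, h3]

/-- The braid relation, in the form used. -/
theorem WW_braid (hab : a ≠ b) (hac : a ≠ c) (hbc : b ≠ c) :
    (WW a b * WW b c) * (WW a b * WW b c) = WW b c * WW a b * (WW b c * WW b c : SpecialLinearGroup ι F) := by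
  have m0 := isMono_WW (F := F) hab
  have m1 := isMono_WW (F := F) hbc
  have m := m0.mul m1
  refine mono_eq (m.mul m) ((m1.mul m0).mul (m1.mul m1)) (fun j => ?_) (fun j => ?_)
  · by_cases h1 : j = a
    · subst h1
      simp [Perm.mul_apply, swap_apply_def, hab, hac, hbc, hab.symm, hac.symm, hbc.symm]
    by_cases h2 : j = b
    · subst h2
      simp [Perm.mul_apply, swap_apply_def, hab, hac, hbc, hab.symm, hac.symm, hbc.symm]
    by_cases h3 : j = c
    · subst h3
      simp [Perm.mul_apply, swap_apply_def, hab, hac, hbc, hab.symm, hac.symm, hbc.symm]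
    simp [Perm.mul_apply, swap_apply_def, h1, h2, h3]
  · by_cases h1 : j = a
    · subst h1
      simp [Perm.mul_apply, swap_apply_def, hab, hac, hbc, hab.symm, hac.symm, hbc.symm]
    by_cases h2 : j = b
    · subst h2
      simp [Perm.mul_apply, swap_apply_def, hab, hac, hbc, hab.symm, hac.symm, hbc.symm]
    by_cases h3 : j = c
    · subst h3
      simp [Perm.mul_apply, swap_apply_def, hab, hac, hbc, hab.symm, hac.symm, hbc.symm]
    simp [Perm.mul_apply, swap_apply_def, h1, h2, h3]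

theorem WW_four (hab : a ≠ b) :
    (WW a b * WW a b) * (WW a b * WW a b) = (1 : SpecialLinearGroup ι F) := by
  have m0 := isMono_WW (F := F) hab
  refine mono_eq ((m0.mul m0).mul (m0.mul m0)) IsMono.one (fun j => ?_) (fun j => ?_)
  · by_cases h1 : j = a
    · subst h1
      simp [Perm.mul_apply, swap_apply_def, hab, hab.symm]
    by_cases h2 : j = b
    · subst h2
      simp [Perm.mul_apply, swap_apply_def, hab, hab.symm]
    simp [Perm.mul_apply, swap_apply_def, h1, h2]
  · by_cases h1 : j = a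
    · subst h1
      simp [Perm.mul_apply, swap_apply_def, hab, hab.symm]
    by_cases h2 : j = b
    · subst h2
      simp [Perm.mul_apply, swap_apply_def, hab, hab.symm]
    simp [Perm.mul_apply, swap_apply_def, h1, h2]

end Mono

end Cfsg.Agent.Lib.SpinD
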