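import Mathlib
import Cfsg.Agent.Lib.SpinD.Upper

/-!
# Central extensions of `Ω⁺_{2n}(F)`: the relations of `OmBase`
-/

set_option autoImplicit false
set_option linter.unusedSectionVars false
set_option linter.unusedSimpArgs false

namespace Cfsg.Agent.Lib.SpinD

open Equiv Matrix Matrix.SpecialLinearGroup
open scoped MatrixGroups commutatorElement
open Cfsg.Agent.Lib.PSL2.Basic Cfsg.Agent.Lib.PresSL.Aut
open Cfsg.Agent.Lib.Steinberg.Family Cfsg.Agent.Lib.Steinberg.LinearStem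
open Cfsg.Agent.Lib.PresSL.Real
open Cfsg.Agent.Lib.PresOm.RealOm
open Cfsg.Agent.Lib.PresOm.OmLinks
open Cfsg.Agent.Lib.PresSp (IsMono WW isMono_WW WW_eq Cz cj_map cj_cj)
open Cfsg.Agent.Lib.PresSp.Links (emb emb_of_cz cz_emb)
open Cfsg.Agent.Lib.ChevIso
open Cfsg.Agent.Lib.Sporadic.Stem

variable {F : Type*} [Field F]

theorem emb_y {k : ℕ} {i j : Fin k} (hij : i ≠ j) (t : F) :
    emb ((X (Fin k) F).y i j t) = (X (Fin (k + 1)) F).y i.succ j.succ t := by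
  have hij' : i.succ ≠ j.succ := fun h => hij (Fin.succ_injective _ h)
  rw [X_y hij, X_y hij']
  apply Subtype.ext
  ext p q
  show Cfsg.Agent.Lib.PresSp.Links.embM (transvection i j t) p q = transvection i.succ j.succ t p q
  rw [Cfsg.Agent.Lib.Linalg.Transvection.transvection_apply_eq]
  refine Fin.cases ?_ (fun p' => ?_) p
  · refine Fin.cases ?_ (fun q' => ?_) q
    · simp [Fin.succ_ne_zero, (Fin.succ_ne_zero _).symm]
    · simp [Fin.succ_ne_zero, (Fin.succ_ne_zero _).symm]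
  · refine Fin.cases ?_ (fun q' => ?_) q
    · simp [Fin.succ_ne_zero, (Fin.succ_ne_zero _).symm]
    · simp only [Cfsg.Agent.Lib.PresSp.Links.embM_ss]
      rw [Cfsg.Agent.Lib.Linalg.Transvection.transvection_apply_eq]
      simp [Fin.succ_inj]

theorem EE_y {r : ℕ} {i j : Fin (r + 2)} (hij : i ≠ j) (t : F) :
    EE ((X (Fin (r + 2)) F).y i j t) = (X (Fin (r + 4)) F).y i.succ.succ j.succ.succ t := by
  show emb (emb _) = _
  rw [emb_y hij, emb_y (fun h => hij (Fin.succ_injective _ h))]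

/-- The relation between double flips in the group. -/
theorem tf_rel {r : ℕ} : (tf 0 1 : GL (OmegaPlus.Ip (r + 4)) F) * cj (lv (WW 0 1 * WW 1 (i2 r))) (tf 0 1) =
    cj (lv (WW 1 (i2 r))) (tf 0 1) := by
  have m0 := isMono_WW (F := F) (n01 (r := r))
  have m1 := isMono_WW (F := F) (n12 (r := r))
  have e1 := lv_tf (m0.mul m1) (0 : Fin (r + 4)) 1
  have e2 := lv_tf m1 (0 : Fin (r + 4)) 1
  have p0 : (swap (0 : Fin (r + 4)) 1 * swap 1 (i2 r)) 0 = 1 := by
    rw [Perm.mul_apply, swap_apply_of_ne_of_ne n01 n02, swap_apply_left]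
  have p1 : (swap (0 : Fin (r + 4)) 1 * swap 1 (i2 r)) 1 = i2 r := by
    rw [Perm.mul_apply, swap_apply_left, swap_apply_of_ne_of_ne n02.symm n12.symm]
  have q0 : swap (1 : Fin (r + 4)) (i2 r) 0 = 0 := swap_apply_of_ne_of_ne n01 n02
  have q1 : swap (1 : Fin (r + 4)) (i2 r) 1 = i2 r := swap_apply_left _ _
  rw [p0, p1] at e1
  rw [q0, q1] at e2
  rw [e1, e2]
  exact tf_T4 _ _ _

variable [Fintype F]

namespace SC

variable {r : ℕ} {Γ : Type*} [Group Γ] (C : SC (r + 4) F Γ)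

theorem sps (M : SpecialLinearGroup (Fin (r + 4)) F) : C.σ (C.ps M) = lv M := by
  rw [psi_spec, lvP_apply, map_one, cj]
  simp

theorem tf_lift : ∃ x : Γ, C.σ x = tf 0 1 := C.hs _ (tf_mem n01)

/-- The flip has a lift satisfying the relation exactly. -/
theorem exists_tau : ∃ a : Γ, C.σ a = tf 0 1 ∧
    a * cj (C.ps (WW 0 1 * WW 1 (i2 r))) a = cj (C.ps (WW 1 (i2 r))) a := by
  obtain ⟨a₀, ha₀⟩ := C.tf_lift
  set g := C.ps (WW 0 1 * WW 1 (i2 r)) with hg
  set h := C.ps (WW 1 (i2 r)) with hh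
  set c := a₀ * cj g a₀ * (cj h a₀)⁻¹ with hc
  have hc1 : C.σ c = 1 := by
    have hs : ∀ k x : Γ, C.σ (cj k x) = cj (C.σ k) (C.σ x) := by
      intro k x
      simp only [cj, map_mul, map_inv]
    rw [hc, map_mul, map_mul, map_inv, hs, hs, ha₀, hg, hh, sps, sps, tf_rel]
    group
  have hcc : c ∈ Subgroup.center Γ := C.mem_center hc1
  have hci : c⁻¹ ∈ Subgroup.center Γ := inv_mem hcc
  have hz : ∀ x : Γ, x * c⁻¹ = c⁻¹ * x := Subgroup.mem_center_iff.mp hci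
  refine ⟨c⁻¹ * a₀, by rw [map_mul, map_inv, hc1, ha₀]; group, ?_⟩
  have e1 : ∀ k : Γ, cj k (c⁻¹ * a₀) = c⁻¹ * cj k a₀ := by
    intro k
    simp only [cj]
    calc k * (c⁻¹ * a₀) * k⁻¹ = (k * c⁻¹) * a₀ * k⁻¹ := by group
      _ = (c⁻¹ * k) * a₀ * k⁻¹ := by rw [hz]
      _ = _ := by group
  rw [e1, e1]
  have e2 : a₀ * cj g a₀ = c * cj h a₀ := by rw [hc]; group
  calc c⁻¹ * a₀ * (c⁻¹ * cj g a₀) = c⁻¹ * (a₀ * c⁻¹) * cj g a₀ := by group
    _ = c⁻¹ * (c⁻¹ * a₀) * cj g a₀ := by rw [hz]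
    _ = c⁻¹ * c⁻¹ * (a₀ * cj g a₀) := by group
    _ = c⁻¹ * c⁻¹ * (c * cj h a₀) := by rw [e2]
    _ = _ := by group

section Flip

variable {a : Γ} (ha : C.σ a = tf 0 1)

include ha

theorem ha' : C.σ a = Fl (sg 0 * sg 1) := by rw [ha, tf_eq]

theorem hρ01 : Sw (sg (0 : Fin (r + 4)) * sg 1) := (Sw.sg _).mul (Sw.sg _)

theorem rel_hC {M : SpecialLinearGroup (Fin (r + 4)) F} (h0 : Cz 0 M) (h1 : Cz 1 M) :
    a * C.ps M = C.ps M * a := by
  obtain ⟨A, rfl⟩ := EE_of_cz h0 h1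
  have hle : (⊤ : Subgroup (SpecialLinearGroup (Fin (r + 2)) F)) ≤
      ((Subgroup.centralizer {a}).comap C.ps).comap EE := by
    rw [← Cfsg.Agent.Lib.Linalg.Transvection.closure_transvections, Subgroup.closure_le]
    rintro _ ⟨i, j, hij, t, rfl⟩
    show C.ps (EE (SpecialLinearGroup.transvection hij t)) ∈ Subgroup.centralizer {a}
    rw [Subgroup.mem_centralizer_iff]
    rintro _ rfl
    rw [← X_y hij, EE_y hij]
    have hij' : i.succ.succ ≠ j.succ.succ := fun h => hij (Fin.succ_injective _ (Fin.succ_injective _ h))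
    have i0 : i.succ.succ ≠ (0 : Fin (r + 4)) := Fin.succ_ne_zero _
    have j0 : j.succ.succ ≠ (0 : Fin (r + 4)) := Fin.succ_ne_zero _
    have i1 : i.succ.succ ≠ (1 : Fin (r + 4)) := by
      intro h
      have : (i.succ.succ : Fin (r + 4)) = (0 : Fin (r + 3)).succ := h
      exact Fin.succ_ne_zero _ (Fin.succ_injective _ this)
    have j1 : j.succ.succ ≠ (1 : Fin (r + 4)) := by
      intro h
      have : (j.succ.succ : Fin (r + 4)) = (0 : Fin (r + 3)).succ := h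
      exact Fin.succ_ne_zero _ (Fin.succ_injective _ this)
    have := C.rel_C_y (hρ01 C ha) (ha' C ha) (a := 0) (b := 1) (i := i.succ.succ) (j := j.succ.succ)
      n01 i0 i1 j0 j1 hij' (pi_ll i0 i1) (pi_ll j0 j1) (pi_l1 n01) t
    exact (mul_inv_eq_iff_eq_mul.mp this)
  have h2 := hle (Subgroup.mem_top A)
  have h3 : C.ps (EE A) ∈ Subgroup.centralizer {a} := h2
  exact Subgroup.mem_centralizer_iff.mp h3 a rfl

theorem rel_hS (z : SL(2, F)) : cj a (C.ps (rho n01 z)) = C.ps (rho n01 (cj w z)) := by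
  have key : cjHom a (C.ps.comp (rho (n01 (r := r)))) =
      (C.ps.comp (rho n01)).comp (MulAut.conj (w : SL(2, F))).toMonoidHom := by
    apply hom_ext
    · intro t
      show cj a (C.ps (rho n01 (x t))) = C.ps (rho n01 (cj w (x t)))
      rw [rho_x, Cfsg.Agent.Lib.PresSp.SpBase.cj_w_x, rho_y]
      exact C.rel_S_y (hρ01 C ha) (ha' C ha) n01 n02 n12 n03 n13 n23 (pi_l1 n01) (pi_l2 n01)
        (pi_ll n02.symm n12.symm) t
    · intro t
      show cj a (C.ps (rho n01 (y t))) = C.ps (rho n01 (cj w (y t)))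
      rw [rho_y, Cfsg.Agent.Lib.PresSp.SpBase.cj_w_y, rho_x]
      exact C.rel_S_y (hρ01 C ha) (ha' C ha) n01.symm n12 n02 n13 n03 n23 (pi_l2 n01) (pi_l1 n01)
        (pi_ll n02.symm n12.symm) t
  exact DFunLike.congr_fun key z

theorem rel_hR4 : C.ps ((X (Fin (r + 4)) F).y 1 (i3 r) 1) * cj a (C.ps ((X (Fin (r + 4)) F).y (i2 r) 0 1)) =
    cj a (C.ps ((X (Fin (r + 4)) F).y (i2 r) 0 1)) * C.ps ((X (Fin (r + 4)) F).y 1 (i3 r) 1) :=
  C.rel_R4_y (hρ01 C ha) (ha' C ha) (m := i3 r) n01 n02 n03 n12 n13 n23 n23 n03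
    (pi_ll n02.symm n12.symm) (pi_l1 n01) (pi_ll n03.symm n13.symm) 1 1

theorem conj_pa (c : Fin (r + 4)) (hc0 : c ≠ 0) (hc1 : c ≠ 1) {m : Fin (r + 4)} (hm0 : m ≠ 0) (hm1 : m ≠ 1)
    (hcm : c ≠ m) (t : F) : cj a (C.ps ((X (Fin (r + 4)) F).y c 0 t)) = C.pa 0 ((X (Fin (r + 4)) F).y c 0 t) :=
  C.conj_psi (hρ01 C ha) (ha' C ha) Sw.one (Sw.sg 0) (m := m) hcm hm0 hc0
    (by rw [Perm.one_apply, pi_ll hc0 hc1, sg_inl_ne hc0])
    (by rw [Perm.one_apply, pi_l1 n01, sg_inl_same])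
    (by rw [Perm.one_apply, pi_ll hm0 hm1, sg_inl_ne hm0]) t

end Flip

omit [Fintype F] in
theorem comm_of_cm {G : Type*} [Group G] {x y : G} (h : cm x y = 1) : x * y = y * x := commute_of_cm h

theorem lift_tf {a b : Fin (r + 4)} (hab : a ≠ b) : ∃ x : Γ, C.σ x = tf a b := C.hs _ (tf_mem hab)

theorem rel_hR2 {a : Γ} (ha : C.σ a = tf 0 1) :
    C.ps ((X (Fin (r + 4)) F).y (i2 r) 0 1) * cj a (C.ps ((X (Fin (r + 4)) F).y (i2 r) 0 1)) =
    cj a (C.ps ((X (Fin (r + 4)) F).y (i2 r) 0 1)) * C.ps ((X (Fin (r + 4)) F).y (i2 r) 0 1) := by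
  rw [conj_pa C ha (i2 r) n02.symm n12.symm (m := i3 r) n03.symm n13.symm n23]
  refine comm_of_cm ?_
  have := C.yy_eq_one (c := i2 r) (a := 0) (b := 1) (m := i3 r) (m₂ := 1) n02.symm n01 n12.symm n23 n03 n13
    n12.symm n01 n13.symm (C.lift_tf n01)
  exact this

/-- In a perfect central extension, lifts of generators generate. -/
theorem closure_top (hp : commutator Γ = ⊤) {a : Γ} (ha : C.σ a = tf 0 1) :
    Subgroup.closure (Set.range C.ps ∪ {a}) = ⊤ := by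
  set H := Subgroup.closure (Set.range C.ps ∪ {a}) with hH
  have h1 : Subgroup.closure (Set.range (lv (n := r + 4) (F := F)) ∪ {(tf 0 1 : GL (OmegaPlus.Ip (r + 4)) F)}) ≤
      H.map C.σ := by
    rw [Subgroup.closure_le]
    rintro _ (⟨M, rfl⟩ | rfl)
    · exact ⟨C.ps M, Subgroup.subset_closure (Or.inl ⟨M, rfl⟩), C.sps M⟩
    · exact ⟨a, Subgroup.subset_closure (Or.inr rfl), ha⟩
  rw [gen_closure n01 (by omega)] at h1
  have hdec : ∀ x : Γ, ∃ h ∈ H, ∃ z ∈ Subgroup.center Γ, x = h * z := by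
    intro x
    obtain ⟨h, hh, he⟩ := h1 (C.hm x)
    refine ⟨h, hh, h⁻¹ * x, C.mem_center ?_, by group⟩
    rw [map_mul, map_inv, he, inv_mul_cancel]
  rw [eq_top_iff, ← hp, commutator_def, Subgroup.commutator_le]
  intro x _ y _
  obtain ⟨h, hh, z, hz, rfl⟩ := hdec x
  obtain ⟨k, hk, w', hw, rfl⟩ := hdec y
  have e : ⁅h * z, k * w'⁆ = ⁅h, k⁆ := by
    change cm (h * z) (k * w') = cm h k
    rw [cm_mul_central_left hz, cm_mul_central_right hw]
  rw [e, commutatorElement_def]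
  exact mul_mem (mul_mem (mul_mem hh hk) (inv_mem hh)) (inv_mem hk)

/-- The square of a suitable lift of the flip has order at most two. -/
theorem tau_sq {a : Γ} (ha : C.σ a = tf 0 1)
    (hT : a * cj (C.ps (WW 0 1 * WW 1 (i2 r))) a = cj (C.ps (WW 1 (i2 r))) a) : (a * a) * (a * a) = 1 := by
  have h1 : a * a ∈ Subgroup.center Γ := by
    apply C.mem_center
    rw [map_mul, ha, tf_sq' n01]
  have hW : WW (0 : Fin (r + 4)) 1 = rho n01 (w : SL(2, F)) := WW_eq n01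
  refine sq_of (g := C.ps (WW 0 1 * WW 1 (i2 r))) (h := C.ps (WW 1 (i2 r))) (m := C.ps (WW 0 1))
    (D := C.ps (WW 1 (i2 r) * WW 1 (i2 r))) h1 ?_ ?_ ?_ ?_ ?_ hT
  · rw [← map_mul, ← map_mul, WW_cube n01 n02 n12, map_one]
  · rw [← map_mul, ← map_mul, ← map_mul, WW_braid n01 n02 n12]
  · have h2 := rel_hS C ha (w : SL(2, F))
    have h3 : cj (w : SL(2, F)) w = w := cj_self _
    rw [h3, ← hW] at h2
    exact (cj_eq_iff.mp h2).symm
  · rw [← map_mul]
    have := WW_four (F := F) (n12 (r := r))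
    rw [this, map_one]
  · apply C.mem_center
    simp only [map_mul, map_inv, C.sps, ha]
    have m1 := isMono_WW (F := F) (n12 (r := r))
    have e := lv_tf (m1.mul m1) (0 : Fin (r + 4)) 1
    have q0 : (swap (1 : Fin (r + 4)) (i2 r) * swap 1 (i2 r)) 0 = 0 := by simp
    have q1 : (swap (1 : Fin (r + 4)) (i2 r) * swap 1 (i2 r)) 1 = 1 := by simp
    rw [q0, q1] at e
    simp only [cj, map_mul] at e
    rw [e]
    group

end SC

end Cfsg.Agent.Lib.SpinD
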