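import Mathlib
import Cfsg.Agent.Lib.SpinD.Upper2

/-!
# Central extensions of `Ω⁺_{2n}(F)`: the kernel has order at most two, and is trivial in
characteristic two
-/

set_option autoImplicit false
set_option linter.unusedSectionVars false
set_option linter.unusedSimpArgs false

namespace Cfsg.Agent.Lib.SpinD

open Equiv Matrix Matrix.SpecialLinearGroup
open scoped MatrixGroups commutatorElement
open Cfsg.Agent.Lib.PSL2.Basic Cfsg.Agent.Lib.PresSL.Aut
open Cfsg.Agent.Lib.Steinberg.Family Cfsg.Agent.Lib.Steinberg.LinearStem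
open Cfsg.Agent.Lib.PresSL.Real
open Cfsg.Agent.Lib.PresOm.RealOm
open Cfsg.Agent.Lib.PresOm.OmLinks
open Cfsg.Agent.Lib.PresOm (OmBase)
open Cfsg.Agent.Lib.PresSp (IsMono WW isMono_WW WW_eq Cz cj_map cj_cj)
open Cfsg.Agent.Lib.ChevIso
open Cfsg.Agent.Lib.Sporadic.Stem

variable {F : Type*} [Field F] [Fintype F]

namespace SC

variable {r : ℕ} {Γ : Type*} [Group Γ] (C : SC (r + 4) F Γ)

/-- The kernel is generated by the square of a suitable lift of a double flip. -/
theorem ker_mem (hp : commutator Γ = ⊤) {a : Γ} (ha : C.σ a = tf 0 1)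
    (hT : a * cj (C.ps (WW 0 1 * WW 1 (i2 r))) a = cj (C.ps (WW 1 (i2 r))) a) {x : Γ} (hx : C.σ x = 1) :
    x ∈ Subgroup.zpowers (a * a) := by
  have hz : a * a ∈ Subgroup.center Γ := by
    apply C.mem_center
    rw [map_mul, ha, tf_sq' n01]
  have hNc : Subgroup.zpowers (a * a) ≤ Subgroup.center Γ := (Subgroup.zpowers_le).2 hz
  haveI hN : (Subgroup.zpowers (a * a)).Normal := ⟨fun n hn g => by
    have := hNc hn
    rw [conj_central g this]
    exact hn⟩
  let π := QuotientGroup.mk' (Subgroup.zpowers (a * a))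
  have hcj : ∀ k y : Γ, cj (π k) (π y) = π (cj k y) := by
    intro k y
    simp only [cj, map_mul, map_inv]
  let B : OmBase (Fin (r + 4)) F (Γ ⧸ Subgroup.zpowers (a * a)) :=
    { o₀ := 0, o₁ := 1, o₂ := i2 r, o₃ := i3 r, h01 := n01, h02 := n02, h03 := n03, h12 := n12, h13 := n13,
      h23 := n23, ψ := π.comp C.ps, τ := π a
      hτ := by
        rw [← map_mul]
        exact (QuotientGroup.eq_one_iff _).2 (Subgroup.mem_zpowers _)
      hC := by
        intro M h0 h1
        simp only [MonoidHom.comp_apply]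
        rw [← map_mul, ← map_mul, rel_hC C ha h0 h1]
      hS := by
        intro z
        simp only [MonoidHom.comp_apply]
        rw [hcj, rel_hS C ha]
      hT4 := by
        simp only [MonoidHom.comp_apply]
        rw [hcj, hcj, ← map_mul, hT]
      hR2 := by
        simp only [MonoidHom.comp_apply]
        rw [hcj, ← map_mul, ← map_mul, rel_hR2 C ha]
      hR4 := by
        intro _
        simp only [MonoidHom.comp_apply]
        rw [hcj, ← map_mul, ← map_mul, rel_hR4 C ha] }
  have hgen : Subgroup.closure (Set.range B.ψ ∪ {B.τ}) = ⊤ := by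
    have h1 := C.closure_top hp ha
    have h2 := MonoidHom.map_closure π (Set.range C.ps ∪ {a})
    rw [h1] at h2
    have h3 : (⊤ : Subgroup Γ).map π = ⊤ := Subgroup.map_top_of_surjective _ (QuotientGroup.mk'_surjective _)
    rw [h3] at h2
    rw [h2]
    congr 1
    ext g
    constructor
    · rintro (⟨M, rfl⟩ | rfl)
      · exact ⟨C.ps M, Or.inl ⟨M, rfl⟩, rfl⟩
      · exact ⟨a, Or.inr rfl, rfl⟩
    · rintro ⟨y, (⟨M, rfl⟩ | rfl), rfl⟩
      · exact Or.inl ⟨M, rfl⟩
      · exact Or.inr rfl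
  obtain ⟨hf, hc⟩ := B.card_bound (by omega : 4 ≤ r + 4) hgen
  have hn3 : 3 ≤ r + 4 := by omega
  let E := omEquiv (r + 4) hn3 F
  have hcardG : Nat.card ↥(OmegaPlus.Om' (r + 4) F) = Nat.card ↥(Cfsg.Omega F (Cfsg.quadFormPlus (r + 4) F)) :=
    (Nat.card_congr E.toEquiv).symm
  have hle : Nat.card (Γ ⧸ Subgroup.zpowers (a * a)) ≤ Nat.card ↥(OmegaPlus.Om' (r + 4) F) := by
    rw [hcardG]
    have h3 := Cfsg.Agent.Lib.PresOm.OmCard.card_Omega (F := F) (r + 4) hn3
    have h4 := prod_id (Fintype.card F) Fintype.card_pos (r + 4 - 1)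
    have e5 : r + 4 - 1 + 1 = r + 4 := by omega
    rw [e5] at h4
    have hZ : 0 < Nat.card (Subgroup.zpowers (-1 : Fˣ)) := Nat.card_pos
    refine Nat.le_of_mul_le_mul_right ?_ hZ
    rw [h3]
    refine hc.trans (le_of_eq ?_)
    generalize ∏ k ∈ Finset.range (r + 4 - 1), ((Fintype.card F ^ (k + 2) - 1) * (Fintype.card F ^ (k + 1) + 1)) = A at h4 ⊢
    generalize ∏ i ∈ Finset.range (r + 4 - 1), (Fintype.card F ^ (2 * (i + 1)) - 1) = A' at h4 ⊢
    generalize Fintype.card F ^ ((r + 4) * (r + 4 - 1)) = Q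
    generalize Fintype.card F ^ (r + 4) - 1 = Q' at h4 ⊢
    generalize Fintype.card F - 1 = Q'' at h4 ⊢
    calc Q'' * (Q * A) = Q * (Q'' * A) := by ring
      _ = Q * (Q' * A') := by rw [h4]
      _ = _ := by ring
  let σ' : Γ →* ↥(OmegaPlus.Om' (r + 4) F) := C.σ.codRestrict _ C.hm
  have hNk : Subgroup.zpowers (a * a) ≤ σ'.ker := by
    rw [Subgroup.zpowers_le, MonoidHom.mem_ker]
    apply Subtype.ext
    show C.σ (a * a) = 1
    rw [map_mul, ha, tf_sq' n01]
  let f := QuotientGroup.lift (Subgroup.zpowers (a * a)) σ' hNk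
  have hfs : Function.Surjective f := by
    rintro ⟨g, hg⟩
    obtain ⟨y, hy⟩ := C.hs g hg
    exact ⟨π y, Subtype.ext hy⟩
  have hbij := Function.Surjective.bijective_of_nat_card_le hfs hle
  have h5 : f (π x) = 1 := Subtype.ext hx
  have h6 : π x = 1 := hbij.1 (by rw [h5, map_one])
  exact (QuotientGroup.eq_one_iff _).1 h6

end SC

end Cfsg.Agent.Lib.SpinD
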