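import Mathlib
import Cfsg.Agent.Lib.SpinD.Upper3

/-!
# Central extensions of `Ω⁺_{2n}(F)`: characteristic two
-/

set_option autoImplicit false
set_option linter.unusedSectionVars false
set_option linter.unusedSimpArgs false

namespace Cfsg.Agent.Lib.SpinD

open Equiv Matrix Matrix.SpecialLinearGroup
open scoped MatrixGroups commutatorElement
open Cfsg.Agent.Lib.Steinberg.Family Cfsg.Agent.Lib.Steinberg.LinearStem
open Cfsg.Agent.Lib.PresSL.Real
open Cfsg.Agent.Lib.PresOm.RealOm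
open Cfsg.Agent.Lib.PresOm.OmLinks
open Cfsg.Agent.Lib.PresSp (IsMono WW isMono_WW WW_eq Cz cj_map cj_cj)
open Cfsg.Agent.Lib.ChevIso
open Cfsg.Agent.Lib.Sporadic.Stem

variable {F : Type*} [Field F] [Fintype F]

section Perm

variable {n : ℕ}

local notation "Ipn" => OmegaPlus.Ip n

theorem pi_rr {a b c : Fin n} (h1 : c ≠ a) (h2 : c ≠ b) : (sg a * sg b) (.inr c : Ipn) = .inr c := by
  rw [Perm.mul_apply, sg_inr_ne h2, sg_inr_ne h1]

theorem pi_r1 {a b : Fin n} (hab : a ≠ b) : (sg a * sg b) (.inr a : Ipn) = .inl a := by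
  rw [Perm.mul_apply, sg_inr_ne hab, sg_inr_same]

theorem exists_fourth {r : ℕ} (x y z : Fin (r + 4)) : ∃ m, m ≠ x ∧ m ≠ y ∧ m ≠ z := by
  by_contra h
  push Not at h
  have hsub : (Finset.univ : Finset (Fin (r + 4))) ⊆ {x, y, z} := by
    intro m _
    by_cases h1 : m = x
    · simp [h1]
    by_cases h2 : m = y
    · simp [h2]
    simp [h m h1 h2]
  have h3 := Finset.card_le_card hsub
  have h4 : ({x, y, z} : Finset (Fin (r + 4))).card ≤ 3 := Finset.card_le_three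
  simp only [Finset.card_univ, Fintype.card_fin] at h3
  omega

end Perm

namespace SC

variable {r : ℕ} {Γ : Type*} [Group Γ] (C : SC (r + 4) F Γ)

local notation "Ipr" => OmegaPlus.Ip (r + 4)

theorem sigma_cj (k x : Γ) : C.σ (cj k x) = cj (C.σ k) (C.σ x) := by
  simp only [cj, map_mul, map_inv]

/-- Root elements with opposite second points have commuting lifts. -/
theorem class1 {c a : Fin (r + 4)} (hca : c ≠ a) {X Y : Γ} (hX : C.σ X = Yt (.inl c : Ipr) (.inl a) 1)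
    (hY : C.σ Y = Yt (.inl c : Ipr) (.inr a) 1) : X * Y = Y * X := by
  obtain ⟨b, hb1, hb2⟩ := OmegaPlus.exists_third (a := c) (b := a) (m := r + 4) (by omega)
  obtain ⟨m, hm1, hm2, hm3⟩ := exists_fourth c a b
  have h1 := C.yy_eq_one (c := c) (a := a) (b := b) (m := m) (m₂ := b) hca hb2.symm hb1.symm hm1.symm hm2.symm hm3.symm
    hb1.symm hb2.symm hm3 (C.lift_tf hb2.symm)
  refine commute_of_cm ?_
  rw [← h1]
  refine C.cm_congr ?_ ?_
  · rw [hX, C.psi_y Sw.one hca]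
    rfl
  · rw [hY, C.psi_y (Sw.sg a) hca, sg_inl_ne hca, sg_inl_same]

section Char2

variable (h2 : (2 : F) = 0)

include h2

omit [Fintype F] in
theorem Yt_bar2 {u v : Ipr} (h : OmegaPlus.Valid u v) : (Yt u v 1 : GL Ipr F) = Yt v.swap u.swap 1 := by
  have hneg : (-1 : F) = 1 := by linear_combination -h2
  rw [Yt_bar h, hneg]

/-- In characteristic two a double flip lifts to an involution. -/
theorem tau_sq_even {a : Γ} (ha : C.σ a = tf 0 1)
    (hT : a * cj (C.ps (WW 0 1 * WW 1 (i2 r))) a = cj (C.ps (WW 1 (i2 r))) a) : a * a = 1 := by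
  have hneg : (-1 : F) = 1 := by linear_combination -h2
  have hz : a * a ∈ Subgroup.center Γ := by
    apply C.mem_center
    rw [map_mul, ha, tf_sq' n01]
  have hρ : Sw (sg (0 : Fin (r + 4)) * sg 1) := (Sw.sg _).mul (Sw.sg _)
  have hW : WW (0 : Fin (r + 4)) 1 = rho n01 (Cfsg.Agent.Lib.PSL2.Basic.w : SL(2, F)) := WW_eq n01
  set x₁ := C.ps ((X (Fin (r + 4)) F).y 0 (i2 r) 1) with hx₁
  set x₂ := C.ps ((X (Fin (r + 4)) F).y (i2 r) 0 1) with hx₂
  set ŵ := C.ps (WW 0 (i2 r)) with hŵ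
  have eŵ : ŵ = x₁ * x₂ * x₁ := by
    rw [hŵ, WW, SFam.w, inv_one, hneg, map_mul, map_mul]
  have s₁ : C.σ x₁ = Yt (.inl 0 : Ipr) (.inl (i2 r)) 1 := by
    rw [hx₁, C.psi_y Sw.one n02]
    rfl
  have s₂ : C.σ x₂ = Yt (.inl (i2 r) : Ipr) (.inl 0) 1 := by
    rw [hx₂, C.psi_y Sw.one n02.symm]
    rfl
  have vv1 : OmegaPlus.Valid (.inl 0 : Ipr) (.inl (i2 r)) := valid_ll n02
  have vv2 : OmegaPlus.Valid (.inl (i2 r) : Ipr) (.inl 0) := valid_ll n02.symm
  have s₁' : C.σ (cj a x₁) = Yt (.inr 0 : Ipr) (.inl (i2 r)) 1 := by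
    rw [sigma_cj, ha, tf_eq, s₁, cj_Fl_Yt hρ vv1, pi_l1 n01, pi_ll n02.symm n12.symm]
  have s₂' : C.σ (cj a x₂) = Yt (.inl (i2 r) : Ipr) (.inr 0) 1 := by
    rw [sigma_cj, ha, tf_eq, s₂, cj_Fl_Yt hρ vv2, pi_l1 n01, pi_ll n02.symm n12.symm]
  -- the four commutation relations
  have c22 : x₂ * cj a x₂ = cj a x₂ * x₂ := C.class1 n02.symm s₂ s₂'
  have c12 : x₁ * cj a x₂ = cj a x₂ * x₁ := by
    refine C.class1 n02 s₁ ?_
    rw [s₂', Yt_bar2 h2 (u := (.inl (i2 r) : Ipr)) (v := .inr 0) (OmegaPlus.valid_of_ind_ne (by simpa [OmegaPlus.ind] using n02.symm))]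
    rfl
  have hcc : cj a (cj a x₁) = x₁ := by
    rw [← cj_comp, cj_of_comm (Subgroup.mem_center_iff.mp hz x₁).symm]
  have hcc₂ : cj a (cj a x₂) = x₂ := by
    rw [← cj_comp, cj_of_comm (Subgroup.mem_center_iff.mp hz x₂).symm]
  have c21 : x₂ * cj a x₁ = cj a x₁ * x₂ := by
    have h3 : cj a (x₂ * cj a x₁) = cj a (cj a x₁ * x₂) := by
      rw [cj_mul, cj_mul, hcc]
      exact c12.symm
    simp only [cj] at h3
    exact mul_left_cancel (a := a) (mul_right_cancel (b := a⁻¹) h3)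
  have c11 : x₁ * cj a x₁ = cj a x₁ * x₁ := by
    obtain ⟨b, hb⟩ := C.lift_tf (a := i2 r) (b := 1) n12.symm
    have hρ' : Sw (sg (i2 r) * sg (1 : Fin (r + 4))) := (Sw.sg _).mul (Sw.sg _)
    have t1 : C.σ (cj b x₁) = Yt (.inl (i2 r) : Ipr) (.inr 0) 1 := by
      rw [sigma_cj, hb, tf_eq, s₁, cj_Fl_Yt hρ' vv1, pi_ll n02 n01, pi_l1 n12.symm,
        Yt_bar2 h2 (u := (.inl (i2 r) : Ipr)) (v := .inr 0) (OmegaPlus.valid_of_ind_ne (by simpa [OmegaPlus.ind] using n02.symm))]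
      rfl
    have t2 : C.σ (cj b (cj a x₁)) = Yt (.inl (i2 r) : Ipr) (.inl 0) 1 := by
      rw [sigma_cj, hb, tf_eq, s₁', cj_Fl_Yt hρ' (u := (.inr 0 : Ipr)) (v := .inl (i2 r)) (OmegaPlus.valid_of_ind_ne (by simpa [OmegaPlus.ind] using n02)), pi_rr n02 n01, pi_l1 n12.symm,
        Yt_bar2 h2 (u := (.inl (i2 r) : Ipr)) (v := .inl 0) vv2]
      rfl
    have h3 := C.class1 n02.symm t2 t1
    have h4 : cj b (x₁ * cj a x₁) = cj b (cj a x₁ * x₁) := by
      rw [cj_mul, cj_mul]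
      exact h3.symm
    simp only [cj] at h4
    exact mul_left_cancel (a := b) (mul_right_cancel (b := b⁻¹) h4)
  -- the Weyl element commutes with its conjugate
  have hww : Commute ŵ (cj a ŵ) := by
    have e : cj a ŵ = cj a x₁ * cj a x₂ * cj a x₁ := by rw [eŵ, cj_mul, cj_mul]
    rw [e, eŵ]
    have C11 : Commute x₁ (cj a x₁) := c11
    have C12 : Commute x₁ (cj a x₂) := c12
    have C21 : Commute x₂ (cj a x₁) := c21
    have C22 : Commute x₂ (cj a x₂) := c22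
    have h1 : ∀ y, Commute x₁ y → Commute x₂ y → Commute (x₁ * x₂ * x₁) y := fun y h h' =>
      ((h.mul_left h').mul_left h)
    exact h1 _ ((C11.mul_right C12).mul_right C11) ((C21.mul_right C22).mul_right C21)
  -- the lift of the other flip
  set d₀ := ŵ * cj a ŵ with hd₀
  have hd₀c : a * d₀ * a⁻¹ = d₀ := by
    have h5 : a * d₀ * a⁻¹ = cj a ŵ * cj a (cj a ŵ) := by
      rw [hd₀, ← cj_mul]
      rfl
    have h6 : cj a (cj a ŵ) = ŵ := by
      rw [← cj_comp, cj_of_comm (Subgroup.mem_center_iff.mp hz ŵ).symm]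
    rw [h5, h6, hd₀]
    exact hww.eq.symm
  have sŵ : C.σ ŵ = Fl (Equiv.sumCongr (swap 0 (i2 r)) (swap 0 (i2 r))) := by
    rw [hŵ, C.sps, lv_WW_char2 h2 n02]
  have sd₀ : C.σ d₀ = tf (i2 r) 0 := by
    set P : Perm Ipr := Equiv.sumCongr (swap 0 (i2 r)) (swap 0 (i2 r)) with hP
    have hPP : P * P = 1 := by
      ext k
      rcases k with j | j <;> simp [hP]
    have hPi : P⁻¹ = P := inv_eq_of_mul_eq_one_left hPP
    have e0 : P * sg 0 * P⁻¹ = sg (i2 r) := by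
      rw [sg, ← Equiv.swap_apply_apply, sg]
      simp [hP]
    have e1 : P * sg 1 * P⁻¹ = sg 1 := by
      rw [sg, ← Equiv.swap_apply_apply]
      have a1 : P (.inl (1 : Fin (r + 4))) = .inl 1 := by
        simp [hP, swap_apply_of_ne_of_ne n01.symm n12]
      have a2 : P (.inr (1 : Fin (r + 4))) = .inr 1 := by
        simp [hP, swap_apply_of_ne_of_ne n01.symm n12]
      rw [a1, a2]
    rw [hPi] at e0 e1
    have e2 : P * (sg 0 * sg 1) * P = sg (i2 r) * sg 1 := by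
      calc P * (sg 0 * sg 1) * P = (P * sg 0 * P) * (P * sg 1 * P) := by
            have : (P * sg 0 * P) * (P * sg 1 * P) = P * sg 0 * (P * P) * sg 1 * P := by group
            rw [this, hPP]
            group
        _ = _ := by rw [e0, e1]
    have e3 : (sg (0 : Fin (r + 4)) * sg 1 : Perm Ipr)⁻¹ = sg 1 * sg 0 := by
      rw [_root_.mul_inv_rev, sg_inv, sg_inv]
    rw [hd₀, map_mul, sigma_cj, ha, sŵ, tf_eq, tf_eq, cj]
    calc (Fl P : GL Ipr F) * (Fl (sg 0 * sg 1) * Fl P * (Fl (sg 0 * sg 1))⁻¹)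
        = Fl (P * (sg 0 * sg 1) * P * (sg 0 * sg 1)⁻¹) := by simp only [map_mul, map_inv]; group
      _ = Fl (sg (i2 r) * sg 0) := by
        rw [e2, e3]
        congr 1
        calc sg (i2 r) * sg 1 * (sg 1 * sg 0) = sg (i2 r) * (sg 1 * sg 1) * sg 0 := by group
          _ = _ := by rw [sg_mul_self, mul_one]
  -- the relation
  have hD : (C.ps (WW 1 (i2 r) * WW 1 (i2 r))) * (C.ps (WW 1 (i2 r) * WW 1 (i2 r))) = 1 := by
    rw [← map_mul, WW_four (F := F) (n12 (r := r)), map_one]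
  have m1 := isMono_WW (F := F) (n12 (r := r))
  have ee := lv_tf (m1.mul m1) (0 : Fin (r + 4)) 1
  have q0 : (swap (1 : Fin (r + 4)) (i2 r) * swap 1 (i2 r)) 0 = 0 := by simp
  have q1 : (swap (1 : Fin (r + 4)) (i2 r) * swap 1 (i2 r)) 1 = 1 := by simp
  rw [q0, q1] at ee
  have hDa : C.ps (WW 1 (i2 r) * WW 1 (i2 r)) * a * (C.ps (WW 1 (i2 r) * WW 1 (i2 r)))⁻¹ * a⁻¹ ∈
      Subgroup.center Γ := by
    apply C.mem_center
    have e4 : C.σ (C.ps (WW 1 (i2 r) * WW 1 (i2 r)) * a * (C.ps (WW 1 (i2 r) * WW 1 (i2 r)))⁻¹) = tf 0 1 := by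
      rw [map_mul, map_mul, map_inv, C.sps, ha]
      exact ee
    rw [map_mul, e4, map_inv, ha]
    group
  have hm : C.ps (WW 0 1) * a = a * C.ps (WW 0 1) := by
    have h2' := rel_hS C ha (Cfsg.Agent.Lib.PSL2.Basic.w : SL(2, F))
    have h3 : cj (Cfsg.Agent.Lib.PSL2.Basic.w : SL(2, F)) Cfsg.Agent.Lib.PSL2.Basic.w = Cfsg.Agent.Lib.PSL2.Basic.w :=
      cj_self _
    rw [h3, ← hW] at h2'
    exact (cj_eq_iff.mp h2').symm
  have hada := ada_of (g := C.ps (WW 0 1 * WW 1 (i2 r))) (h := C.ps (WW 1 (i2 r))) (m := C.ps (WW 0 1))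
    (D := C.ps (WW 1 (i2 r) * WW 1 (i2 r)))
    (by rw [← map_mul, ← map_mul, WW_cube n01 n02 n12, map_one])
    (by rw [← map_mul, ← map_mul, ← map_mul, WW_braid n01 n02 n12]) hm hD hDa hT
  set d := (C.ps (WW 0 1 * WW 1 (i2 r)) * C.ps (WW 0 1 * WW 1 (i2 r))) * a *
    (C.ps (WW 0 1 * WW 1 (i2 r)) * C.ps (WW 0 1 * WW 1 (i2 r)))⁻¹ with hd
  have sd : C.σ d = tf (i2 r) 0 := by
    have m0 := isMono_WW (F := F) (n01 (r := r))
    have m2 := m0.mul m1
    have e5 := lv_tf (m2.mul m2) (0 : Fin (r + 4)) 1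
    have p0 : ((swap (0 : Fin (r + 4)) 1 * swap 1 (i2 r)) * (swap 0 1 * swap 1 (i2 r)) : Perm (Fin (r + 4))) 0 = i2 r := by
      simp only [Perm.mul_apply]
      rw [swap_apply_of_ne_of_ne n01 n02, swap_apply_left, swap_apply_left,
        swap_apply_of_ne_of_ne n02.symm n12.symm]
    have p1 : ((swap (0 : Fin (r + 4)) 1 * swap 1 (i2 r)) * (swap 0 1 * swap 1 (i2 r)) : Perm (Fin (r + 4))) 1 = 0 := by
      simp only [Perm.mul_apply]
      rw [swap_apply_left, swap_apply_of_ne_of_ne n02.symm n12.symm, swap_apply_right, swap_apply_right]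
    rw [p0, p1] at e5
    rw [hd, map_mul, map_mul, map_inv, map_mul, C.sps, ha, ← map_mul]
    exact e5
  have hcm : cm a d = cm a d₀ := C.cm_congr rfl (by rw [sd, sd₀])
  have hcm1 : cm a d₀ = 1 := by
    simp only [cm]
    rw [hd₀c]
    group
  have hcomm : a * d = d * a := commute_of_cm (hcm.trans hcm1)
  have h7 : a * a * d = d := by
    calc a * a * d = a * (a * d) := by group
      _ = a * (d * a) := by rw [hcomm]
      _ = a * d * a := by group
      _ = d := hada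
  exact mul_eq_right.mp h7

end Char2

/-- **Stem extensions of `Ω`.** -/
theorem ker_two (hp : commutator Γ = ⊤) : ∃ z : Γ, z * z = 1 ∧ ((2 : F) = 0 → z = 1) ∧
    ∀ x, C.σ x = 1 → x = 1 ∨ x = z := by
  obtain ⟨a, ha, hT⟩ := C.exists_tau
  refine ⟨a * a, C.tau_sq ha hT, fun h2 => C.tau_sq_even h2 ha hT, fun x hx => ?_⟩
  have h1 := C.ker_mem hp ha hT hx
  obtain ⟨k, rfl⟩ := Subgroup.mem_zpowers_iff.mp h1
  have hsq := C.tau_sq ha hT
  rcases Int.even_or_odd' k with ⟨m, rfl | rfl⟩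
  · left
    rw [_root_.zpow_mul, zpow_two, hsq, _root_.one_zpow]
  · right
    rw [_root_.zpow_add, _root_.zpow_mul, zpow_two, hsq, _root_.one_zpow, one_mul, zpow_one]

end SC

end Cfsg.Agent.Lib.SpinD
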