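import Mathlib
import Cfsg.Agent.Lib.SpinD.Upper4

/-!
# Finite central extensions of `Ω` satisfy the hypotheses for the bound on stem extensions
-/

set_option autoImplicit false
set_option linter.unusedSectionVars false
set_option linter.unusedSimpArgs false

namespace Cfsg.Agent.Lib.SpinD

open Equiv Matrix Matrix.SpecialLinearGroup
open scoped MatrixGroups commutatorElement
open Cfsg.Agent.Lib.Steinberg.Family Cfsg.Agent.Lib.Steinberg.LinearStem
open Cfsg.Agent.Lib.Steinberg.Cover
open Cfsg.Agent.Lib.ChevIso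
open Cfsg.Agent.Lib.Sporadic.Stem

section General

variable {E H G : Type*} [Group E] [Group H] [Group G]

/-- A stem extension of a perfect group is perfect. -/
theorem stem_perfect (σ : E →* H) (hσ : Cfsg.IsStemExtension σ) (hp : commutator H = ⊤) : commutator E = ⊤ := by
  rw [eq_top_iff]
  intro x _
  have h1 : σ x ∈ (commutator E).map σ := by
    rw [map_commutator_eq_top σ hσ.1 hp]
    trivial
  obtain ⟨p, hp1, hp2⟩ := h1
  have h2 : p⁻¹ * x ∈ σ.ker := by
    rw [MonoidHom.mem_ker, map_mul, map_inv, hp2, inv_mul_cancel]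
  have h3 := hσ.2.2 h2
  have h4 : x = p * (p⁻¹ * x) := by group
  rw [h4]
  exact Subgroup.mul_mem _ hp1 h3

/-- An element of a perfect central extension whose image is central is central. -/
theorem central_of_image (σ : E →* H) (hk : σ.ker ≤ Subgroup.center E) (hE : commutator E = ⊤) {z : E}
    (hz : ∀ x, σ z * σ x = σ x * σ z) : z ∈ Subgroup.center E := by
  have hcen : ∀ x, cm z x ∈ Subgroup.center E := by
    intro x
    apply hk
    rw [MonoidHom.mem_ker]
    simp only [cm, map_mul, map_inv]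
    rw [hz x]
    group
  let f : E →* E :=
    { toFun := fun x => cm z x
      map_one' := by simp [cm]
      map_mul' := by
        intro x y
        have e : cm z (x * y) = cm z x * (x * cm z y * x⁻¹) := by
          simp only [cm]
          group
        rw [e, conj_central x (hcen y)] }
  have h1 : commutator E ≤ f.ker := by
    show ⁅(⊤ : Subgroup E), ⊤⁆ ≤ _
    refine Subgroup.commutator_le.mpr ?_
    intro a _ b _
    rw [MonoidHom.mem_ker, map_commutatorElement]
    have h2 : f a * f b = f b * f a := Subgroup.mem_center_iff.mp (hcen a) (f b) |>.symm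
    rw [commutatorElement_def, h2]
    group
  rw [Subgroup.mem_center_iff]
  intro x
  have h2 : f x = 1 := h1 (by rw [hE]; trivial)
  have h3 : z * x * z⁻¹ * x⁻¹ = 1 := h2
  have h4 : z * x = x * z := by
    have h5 : z * x * z⁻¹ = x := by
      calc z * x * z⁻¹ = z * x * z⁻¹ * x⁻¹ * x := by group
        _ = x := by rw [h3, one_mul]
    calc z * x = z * x * z⁻¹ * z := by group
      _ = x * z := by rw [h5]
  exact h4.symm

/-- A stem extension of a perfect central extension gives a central extension. -/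
theorem central_comp' (σ : E →* H) (θ : H →* G) (hσ : Cfsg.IsStemExtension σ) (hp : commutator H = ⊤)
    (hθ : θ.ker ≤ Subgroup.center H) : (θ.comp σ).ker ≤ Subgroup.center E := by
  have hE := stem_perfect σ hσ hp
  intro z hz
  apply central_of_image σ hσ.2.1 hE
  intro x
  have hz1 : σ z ∈ θ.ker := hz
  exact (Subgroup.mem_center_iff.mp (hθ hz1) (σ x)).symm

end General

variable {F : Type*} [Field F] [Fintype F]

/-- Homomorphisms from `SL_n(F)` lift through finite central extensions. -/
theorem exists_sl_lift {Γ H : Type*} [Group Γ] [Finite Γ] [Group H] {m : ℕ} (τ : Γ →* H)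
    (hs : Function.Surjective τ) (hc : τ.ker ≤ Subgroup.center Γ) (hm : 2 ≤ m)
    (H3 : m = 2 → Fintype.card F ≠ 2 ∧ Fintype.card F ≠ 4) (H4 : m = 3 → Fintype.card F ≠ 2)
    (f : SpecialLinearGroup (Fin (m + 1)) F →* H) :
    ∃ ψ : SpecialLinearGroup (Fin (m + 1)) F →* Γ, ∀ M, τ (ψ M) = f M := by
  classical
  let P : Subgroup (Γ × SpecialLinearGroup (Fin (m + 1)) F) :=
    MonoidHom.eqLocus (τ.comp (MonoidHom.fst Γ _)) (f.comp (MonoidHom.snd Γ _))
  let g : P →* SpecialLinearGroup (Fin (m + 1)) F := (MonoidHom.snd Γ _).comp P.subtype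
  have hgs : Function.Surjective g := by
    intro M
    obtain ⟨x, hx⟩ := hs (f M)
    exact ⟨⟨(x, M), hx⟩, rfl⟩
  have hgc : g.ker ≤ Subgroup.center P := by
    rintro ⟨⟨x, M⟩, hxM⟩ hk
    have hM : M = 1 := hk
    subst hM
    have hx : τ x = f 1 := hxM
    rw [map_one] at hx
    have hxc : x ∈ Subgroup.center Γ := hc hx
    rw [Subgroup.mem_center_iff]
    rintro ⟨⟨y, g⟩, hyg⟩
    apply Subtype.ext
    apply Prod.ext
    · exact Subgroup.mem_center_iff.mp hxc y
    · simp
  have hp : commutator (SpecialLinearGroup (Fin (m + 1)) F) = ⊤ :=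
    Cfsg.Agent.Lib.Linalg.Transvection.commutator_sl_eq_top (by simp; omega)
  have hstem := comm_stem g hgs hgc hp
  have hker := ker_eq_bot (g.comp (commutator P).subtype) hstem hm H3 H4
  have hinj : Function.Injective (g.comp (commutator P).subtype) := (MonoidHom.ker_eq_bot_iff _).mp hker
  let e : commutator P ≃* SpecialLinearGroup (Fin (m + 1)) F := MulEquiv.ofBijective _ ⟨hinj, hstem.1⟩
  refine ⟨(MonoidHom.fst Γ _).comp (P.subtype.comp ((commutator P).subtype.comp e.symm.toMonoidHom)), fun M => ?_⟩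
  have h1 : τ ((e.symm M).1.1.1) = f ((e.symm M).1.1.2) := (e.symm M).1.2
  have h2 : (e.symm M).1.1.2 = e (e.symm M) := rfl
  rw [MulEquiv.apply_symm_apply] at h2
  show τ ((e.symm M).1.1.1) = f M
  rw [h1, h2]

variable {r : ℕ}

/-- A finite central extension of `Ω`. -/
noncomputable def scOf {Γ : Type*} [Group Γ] [Finite Γ] (τ : Γ →* OmegaPlus.Om' (r + 4) F)
    (hs : Function.Surjective τ) (hc : τ.ker ≤ Subgroup.center Γ) (H4 : r = 0 → Fintype.card F ≠ 2) :
    SC (r + 4) F Γ where
  σ := (OmegaPlus.Om' (r + 4) F).subtype.comp τ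
  hk := by
    intro x hx
    apply hc
    rw [MonoidHom.mem_ker]
    apply Subtype.ext
    exact hx
  hm x := (τ x).2
  hs g hg := by
    obtain ⟨x, hx⟩ := hs ⟨g, hg⟩
    exact ⟨x, congrArg Subtype.val hx⟩
  hl f hf := by
    obtain ⟨ψ, hψ⟩ := exists_sl_lift (m := r + 3) τ hs hc (by omega) (by omega) (fun h => H4 (by omega))
      (f.codRestrict _ hf)
    exact ⟨ψ, fun M => congrArg Subtype.val (hψ M)⟩

theorem scOf_sigma {Γ : Type*} [Group Γ] [Finite Γ] (τ : Γ →* OmegaPlus.Om' (r + 4) F)
    (hs : Function.Surjective τ) (hc : τ.ker ≤ Subgroup.center Γ) (H4 : r = 0 → Fintype.card F ≠ 2) (x : Γ) :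
    (scOf τ hs hc H4).σ x = (τ x : GL (OmegaPlus.Ip (r + 4)) F) := rfl

end Cfsg.Agent.Lib.SpinD
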