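import Mathlib
import Cfsg.Agent.Lib.SpinD.Stem

/-!
# Lifts of `-1` in central extensions of `Ω`
-/

set_option autoImplicit false
set_option linter.unusedSectionVars false
set_option linter.unusedSimpArgs false

namespace Cfsg.Agent.Lib.SpinD

open Equiv Matrix Matrix.SpecialLinearGroup
open scoped MatrixGroups commutatorElement
open Cfsg.Agent.Lib.Steinberg.Family Cfsg.Agent.Lib.Steinberg.LinearStem
open Cfsg.Agent.Lib.PresSL.Real
open Cfsg.Agent.Lib.PresOm.RealOm
open Cfsg.Agent.Lib.PresOm.OmLinks
open Cfsg.Agent.Lib.PresSp (IsMono WW isMono_WW WW_eq Cz cj_map cj_cj)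
open Cfsg.Agent.Lib.ChevIso
open Cfsg.Agent.Lib.Sporadic.Stem

variable {n : ℕ} {F : Type*} [Field F]

local notation "Ipn" => OmegaPlus.Ip n

/-- Diagonal elements. -/
def dg (d : Fin n → F) (h : ∏ a, d a = 1) : SpecialLinearGroup (Fin n) F :=
  ⟨Matrix.diagonal d, by rw [det_diagonal, h]⟩

theorem dg_coe (d : Fin n → F) (h : ∏ a, d a = 1) : (dg d h).1 = Matrix.diagonal d := rfl

theorem dg_mul (d d' : Fin n → F) (h : ∏ a, d a = 1) (h' : ∏ a, d' a = 1) (h'' : ∏ a, (d a * d' a) = 1) :
    dg d h * dg d' h' = dg (fun a => d a * d' a) h'' :=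
  Subtype.ext (by
    show Matrix.diagonal d * Matrix.diagonal d' = Matrix.diagonal _
    rw [diagonal_mul_diagonal])

theorem dg_one (d : Fin n → F) (h : ∏ a, d a = 1) (hd : ∀ a, d a = 1) : dg d h = 1 :=
  Subtype.ext (by
    show Matrix.diagonal d = 1
    rw [show d = fun _ => 1 from funext hd, diagonal_one])

theorem dg_inv (d : Fin n → F) (h : ∏ a, d a = 1) (h' : ∏ a, (d a)⁻¹ = 1) :
    (dg d h)⁻¹ = dg (fun a => (d a)⁻¹) h' := by
  have hne : ∀ a, d a ≠ 0 := by
    intro a ha
    have : ∏ a, d a = 0 := Finset.prod_eq_zero (Finset.mem_univ a) ha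
    rw [h] at this
    exact one_ne_zero this
  rw [inv_eq_iff_mul_eq_one, dg_mul _ _ _ _ (by simp [mul_comm, hne, mul_inv_cancel₀]), dg_one]
  intro a
  exact mul_inv_cancel₀ (hne a)

theorem lv_dg (d : Fin n → F) (h : ∏ a, d a = 1) :
    ((lv (dg d h) : GL Ipn F) : Matrix Ipn Ipn F) = Matrix.diagonal (Sum.elim d (fun a => (d a)⁻¹)) := by
  have h' : ∏ a, (d a)⁻¹ = 1 := by rw [Finset.prod_inv_distrib, h, inv_one]
  rw [lv_coe, lvM, dg_inv d h h', dg_coe, dg_coe, diagonal_transpose, fromBlocks_diagonal]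

theorem mv_diag (δ : Ipn → F) (k : Ipn) : Matrix.diagonal δ *ᵥ (OmegaPlus.e k : Ipn → F) = δ k • OmegaPlus.e k := by
  classical
  funext l
  rw [mulVec_diagonal, Pi.smul_apply, OmegaPlus.e_apply, smul_eq_mul]
  by_cases h : l = k
  · subst h
    simp
  · simp [h]

/-- Diagonal elements in a twisted Levi subgroup. -/
theorem lvP_dg (π : Perm Ipn) (d : Fin n → F) (h : ∏ a, d a = 1) (k : Ipn) :
    ((lvP π (dg d h) : GL Ipn F) : Matrix Ipn Ipn F) *ᵥ OmegaPlus.e k =
      (Sum.elim d (fun a => (d a)⁻¹) (π⁻¹ k)) • OmegaPlus.e k := by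
  rw [lvP_apply, cj, ← map_inv]
  simp only [Units.val_mul, ← mulVec_mulVec]
  have h1 : π (π⁻¹ k) = k := by simp
  rw [Fl_e, lv_dg, mv_diag, mulVec_smul, Fl_e, h1]

theorem gl_neg_ext {g : GL Ipn F} (h : ∀ k, (g : Matrix Ipn Ipn F) *ᵥ OmegaPlus.e k = (-1 : F) • OmegaPlus.e k) :
    g = -1 := by
  apply OmegaPlus.gl_ext
  intro k
  rw [h, Units.val_neg, Units.val_one, neg_mulVec, one_mulVec, neg_one_smul]

section Lifts

variable [Fintype F] {r : ℕ} {Γ : Type*} [Group Γ] (C : SC (r + 4) F Γ)

local notation "Ipr" => OmegaPlus.Ip (r + 4)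

theorem psi_sigma_one (M : SpecialLinearGroup (Fin (r + 4)) F) : C.σ (C.psi Sw.one M) = lvP 1 M := C.psi_spec _ _

/-- For `n` even the lift of `-1` from the Levi subgroup is an involution. -/
theorem SC.even_lift (he : Even (r + 4)) : ∃ e : Γ, C.σ e = -1 ∧ e * e = 1 := by
  have h1 : ∏ _a : Fin (r + 4), (-1 : F) = 1 := by
    rw [Finset.prod_const, Finset.card_univ, Fintype.card_fin]
    exact he.neg_one_pow
  have h3 : ∏ _a : Fin (r + 4), ((-1 : F) * (-1)) = 1 := by simp
  refine ⟨C.psi Sw.one (dg _ h1), ?_, ?_⟩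
  · rw [psi_sigma_one]
    apply gl_neg_ext
    intro k
    rw [lvP_dg]
    rcases (1 : Perm Ipr)⁻¹ k with j | j <;> simp
  · rw [← map_mul, dg_mul _ _ h1 h1 h3, dg_one, map_one]
    intro a
    simp

/-- For `n` odd, if `-1` is a square, a lift of `-1` squares to the element separating two Levi subgroups. -/
theorem SC.odd_lift (hp : commutator Γ = ⊤) {i : F} (hi : i * i = -1) (ho : Odd (r + 4)) {m : Γ} (hm : C.σ m = 1)
    (hD : C.psi (Sw.sg 0) (WW 0 1 * WW 0 1) = m * C.psi Sw.one (WW 0 1 * WW 0 1)) :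
    ∃ e : Γ, C.σ e = -1 ∧ e * e = m := by
  have i0 : i ≠ 0 := by
    rintro rfl
    rw [mul_zero] at hi
    have : (1 : F) = 0 := by linear_combination hi
    exact one_ne_zero this
  have inv1 : i⁻¹ = -i := by
    apply inv_eq_of_mul_eq_one_right
    linear_combination -hi
  have inv2 : (-i)⁻¹ = i := by rw [inv_neg, inv1, neg_neg]
  have n01' : (0 : Fin (r + 4)) ≠ 1 := n01
  let d : Fin (r + 4) → F := fun a => if a = 0 then i else if a = 1 then -i else 1
  let d' : Fin (r + 4) → F := fun a => if a = 0 then -i else if a = 1 then -i else -1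
  let d2 : Fin (r + 4) → F := fun a => if a = 0 then -1 else if a = 1 then -1 else 1
  have hd : ∏ a, d a = 1 := by
    rw [Finset.prod_eq_mul 0 1 n01']
    · simp only [d, if_true, if_neg n01'.symm]
      linear_combination -hi
    · intro a _ ha
      simp only [d, if_neg ha.1, if_neg ha.2]
    · simp
    · simp
  have hd2 : ∏ a, d2 a = 1 := by
    rw [Finset.prod_eq_mul 0 1 n01']
    · simp only [d2, if_true, if_neg n01'.symm]
      ring
    · intro a _ ha
      simp only [d2, if_neg ha.1, if_neg ha.2]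
    · simp
    · simp
  have hd' : ∏ a, d' a = 1 := by
    let d3 : Fin (r + 4) → F := fun a => if a = 0 then i else if a = 1 then i else 1
    have h3 : ∏ a, d3 a = -1 := by
      rw [Finset.prod_eq_mul 0 1 n01']
      · simp only [d3, if_true, if_neg n01'.symm]
        exact hi
      · intro a _ ha
        simp only [d3, if_neg ha.1, if_neg ha.2]
      · simp
      · simp
    have h4 : d' = fun a => (-1) * d3 a := by
      funext a
      simp only [d', d3]
      split_ifs <;> ring
    rw [h4, Finset.prod_mul_distrib, h3, Finset.prod_const, Finset.card_univ, Fintype.card_fin, ho.neg_one_pow]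
    ring
  have hMM : dg d hd * dg d hd = dg d2 hd2 := by
    apply Subtype.ext
    show Matrix.diagonal d * Matrix.diagonal d = Matrix.diagonal d2
    rw [diagonal_mul_diagonal]
    congr 1
    funext a
    simp only [d, d2]
    split_ifs
    · linear_combination hi
    · linear_combination hi
    · ring
  have hMM' : dg d' hd' * dg d' hd' = dg d2 hd2 := by
    apply Subtype.ext
    show Matrix.diagonal d' * Matrix.diagonal d' = Matrix.diagonal d2
    rw [diagonal_mul_diagonal]
    congr 1
    funext a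
    simp only [d', d2]
    split_ifs
    · linear_combination hi
    · linear_combination hi
    · ring
  have hWW : WW 0 1 * WW 0 1 = (dg d2 hd2 : SpecialLinearGroup (Fin (r + 4)) F) := by
    have m0 := isMono_WW (F := F) n01'
    have m2 := m0.mul m0
    apply Subtype.ext
    ext x y
    rw [m2.2, dg_coe, Equiv.swap_mul_self, diagonal_apply]
    show (if x = y then _ else _) = _
    by_cases hxy : x = y
    · subst hxy
      rw [if_pos rfl, if_pos rfl]
      by_cases h0 : x = 0
      · subst h0
        simp [d2, n01'.symm]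
      by_cases h1 : x = 1
      · subst h1
        simp [d2, n01'.symm, n01']
      simp [d2, h0, h1, swap_apply_of_ne_of_ne h0 h1]
    · rw [if_neg hxy, if_neg hxy]
  have hDD : dg d2 hd2 * dg d2 hd2 = 1 := by
    rw [← hWW]
    exact WW_four n01'
  set x := C.psi Sw.one (dg d hd) with hx
  set y := C.psi (Sw.sg 0) (dg d' hd') with hy
  have hsx : C.σ x = lvP 1 (dg d hd) := C.psi_spec _ _
  have hsy : C.σ y = lvP (sg 0) (dg d' hd') := C.psi_spec _ _
  have hse : C.σ (x * y) = -1 := by
    rw [map_mul, hsx, hsy]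
    apply gl_neg_ext
    intro k
    rw [Units.val_mul, ← mulVec_mulVec, lvP_dg, mulVec_smul, lvP_dg, sg_inv, smul_smul]
    congr 1
    rcases k with a | a
    · by_cases h0 : a = 0
      · subst h0
        rw [sg_inl_same]
        simp only [Perm.one_apply, inv_one, Sum.elim_inl, Sum.elim_inr, d, d', if_true]
        rw [inv2]
        exact hi
      rw [sg_inl_ne h0]
      by_cases h1 : a = 1
      · subst h1
        simp only [Perm.one_apply, inv_one, Sum.elim_inl, d, d', if_neg n01'.symm, if_true]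
        linear_combination hi
      simp only [Perm.one_apply, inv_one, Sum.elim_inl, d, d', if_neg h0, if_neg h1]
      ring
    · by_cases h0 : a = 0
      · subst h0
        rw [sg_inr_same]
        simp only [Perm.one_apply, inv_one, Sum.elim_inl, Sum.elim_inr, d, d', if_true]
        rw [inv1]
        linear_combination hi
      rw [sg_inr_ne h0]
      by_cases h1 : a = 1
      · subst h1
        simp only [Perm.one_apply, inv_one, Sum.elim_inr, d, d', if_neg n01'.symm, if_true]
        rw [inv2]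
        exact hi
      simp only [Perm.one_apply, inv_one, Sum.elim_inr, d, d', if_neg h0, if_neg h1]
      simp
  refine ⟨x * y, hse, ?_⟩
  have hcen : x * y ∈ Subgroup.center Γ := by
    apply central_of_image C.σ C.hk hp
    intro g
    rw [hse]
    simp
  have hcomm : y * x = x * y := by
    have h1 := Subgroup.mem_center_iff.mp hcen x
    -- h1 : x * (x * y) = x * y * x
    have h2 : x * (x * y) = x * (y * x) := by
      rw [h1, mul_assoc]
    exact (mul_left_cancel h2).symm
  have e1 : x * x = C.psi Sw.one (WW 0 1 * WW 0 1) := by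
    rw [hWW, ← hMM, map_mul]
  have e2 : y * y = C.psi (Sw.sg 0) (WW 0 1 * WW 0 1) := by
    rw [hWW, ← hMM', map_mul]
  have hmc : m ∈ Subgroup.center Γ := C.mem_center hm
  calc x * y * (x * y) = (x * x) * (y * y) := by
        rw [mul_assoc x y, ← mul_assoc y x, hcomm]
        group
    _ = m * (C.psi Sw.one (WW 0 1 * WW 0 1) * C.psi Sw.one (WW 0 1 * WW 0 1)) := by
        rw [e1, e2, hD]
        rw [← mul_assoc, ← mul_assoc, (Subgroup.mem_center_iff.mp hmc _)]
    _ = m := by
        rw [← map_mul, hWW, hDD, map_one, mul_one]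

end Lifts

end Cfsg.Agent.Lib.SpinD
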