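import Mathlib
import Cfsg.Agent.Lib.SpinD.Diag
import Cfsg.Agent.Lib.SpinD.Cliff3
import Cfsg.Agent.Lib.Classical.Orth.Center

/-!
# The spin group: the kernel of the map to `Ω`
-/

set_option autoImplicit false
set_option linter.unusedSectionVars false
set_option linter.unusedSimpArgs false

namespace Cfsg.Agent.Lib.SpinD

open Equiv Matrix Matrix.SpecialLinearGroup
open scoped MatrixGroups commutatorElement
open Cfsg.Agent.Lib.Steinberg.Family Cfsg.Agent.Lib.Steinberg.LinearStem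
open Cfsg.Agent.Lib.PresSL.Real
open Cfsg.Agent.Lib.PresOm.RealOm
open Cfsg.Agent.Lib.PresOm.OmLinks
open Cfsg.Agent.Lib.PresSp (IsMono WW isMono_WW WW_eq Cz cj_map cj_cj)
open Cfsg.Agent.Lib.ChevIso
open Cfsg.Agent.Lib.Sporadic.Stem

variable {F : Type*} [Field F] [Fintype F] {r : ℕ}

local notation "Ipr" => OmegaPlus.Ip (r + 4)

/-- The unit part. -/
noncomputable def cL (n : ℕ) (F : Type*) [Field F] : Sp n F →* (Cl n F)ˣ :=
  (MonoidHom.fst _ _).comp ((Pre n F).subtype.comp (Sp n F).subtype)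

theorem H4_of (h2 : (2 : F) ≠ 0) : r = 0 → Fintype.card F ≠ 2 := by
  intro _ h
  have := Cfsg.Agent.Lib.Classical.Orth.Center.card_odd_iff h2
  rw [h] at this
  exact absurd this (by decide)

/-- The central extension structure on the spin group. -/
noncomputable def scSp (h2 : (2 : F) ≠ 0) : SC (r + 4) F (Sp (r + 4) F) :=
  haveI := finite_Sp (n := r + 4) h2
  scOf (tSp _ _) (tSp_stem (by omega)).1 (tSp_stem (by omega)).2.1 (H4_of h2)

theorem scSp_sigma (h2 : (2 : F) ≠ 0) (x : Sp (r + 4) F) : (scSp h2).σ x = (tSp (r + 4) F x : GL Ipr F) := rfl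

theorem sigma_Le (h2 : (2 : F) ≠ 0) (hn : 3 ≤ r + 4) {u v : Ipr} (h : OmegaPlus.Valid u v) (t : F) :
    (scSp h2).σ (Le hn h t) = Yt u v t := by
  rw [Yt_of h]
  rfl

/-- The Levi lifts of root elements in the spin group are the explicit ones. -/
theorem psi_Le (h2 : (2 : F) ≠ 0) (hn : 3 ≤ r + 4) {π : Perm Ipr} (hπ : Sw π) {i j : Fin (r + 4)} (hij : i ≠ j) (t : F) :
    (scSp h2).psi hπ ((X (Fin (r + 4)) F).y i j t) = Le hn (valid_of_Sw hπ (valid_ll hij)) t := by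
  obtain ⟨m, hm1, hm2⟩ := OmegaPlus.exists_third (a := i) (b := j) hn
  have e := (scSp h2).psi_comm hπ hm1.symm hm2 hij t 1
  rw [mul_one] at e
  rw [e]
  have e2 := Le_comm hn (valid_of_Sw hπ (valid_ll hm1.symm)) (valid_of_Sw hπ (valid_ll hm2))
    (valid_of_Sw hπ (valid_ll hij)) t 1
  rw [mul_one] at e2
  rw [← e2, commutatorElement_def]
  refine (scSp h2).cm_congr ?_ ?_
  · rw [(scSp h2).psi_y hπ hm1.symm, sigma_Le]
  · rw [(scSp h2).psi_y hπ hm2, sigma_Le]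

theorem cL_W (h2 : (2 : F) ≠ 0) {π : Perm Ipr} (hπ : Sw π) {i j : Fin (r + 4)} (hij : i ≠ j) :
    (((cL (r + 4) F) ((scSp h2).psi hπ (WW i j)) : (Cl (r + 4) F)ˣ) : Cl (r + 4) F) =
      (1 + XX (π (.inl i)) (π (.inl j))) * (1 - XX (π (.inl j)) (π (.inl i))) * (1 + XX (π (.inl i)) (π (.inl j))) := by
  have hn : 3 ≤ r + 4 := by omega
  rw [WW, SFam.w]
  simp only [map_mul, Units.val_mul]
  rw [psi_Le h2 hn hπ hij, psi_Le h2 hn hπ hij.symm]
  show (((Lu (valid_of_Sw hπ (valid_ll hij)) (1 : F) : (Cl (r + 4) F)ˣ) : Cl (r + 4) F)) *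
      ((Lu (valid_of_Sw hπ (valid_ll hij.symm)) (-(1 : F)⁻¹) : (Cl (r + 4) F)ˣ) : Cl (r + 4) F) *
    ((Lu (valid_of_Sw hπ (valid_ll hij)) (1 : F) : (Cl (r + 4) F)ˣ) : Cl (r + 4) F) = _
  rw [Lu_coe, Lu_coe, inv_one, one_smul, neg_smul, one_smul, sub_eq_add_neg]

omit [Fintype F] in
theorem cl4_base :
    Cl4 (gn (.inl 0 : Ipr) : Cl (r + 4) F) (gn (.inr 0 : Ipr)) (gn (.inl 1 : Ipr)) (gn (.inr 1 : Ipr)) := by
  have n01' : (0 : Fin (r + 4)) ≠ 1 := n01
  refine ⟨gn_sq _, gn_sq _, gn_sq _, gn_sq _, gn_swap (.inl 0), gn_swap (.inl 1), gn_anti ?_, gn_anti ?_, gn_anti ?_,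
    gn_anti ?_⟩
  · simp
  · simpa using n01'.symm
  · simpa using n01'.symm
  · simp

/-- The element of the kernel: squares of Weyl elements in the two Levi subgroups differ by `-1`. -/
theorem w_sq_flip (h2 : (2 : F) ≠ 0) :
    (((cL (r + 4) F) ((scSp h2).psi (Sw.sg 0) (WW 0 1 * WW 0 1)) : (Cl (r + 4) F)ˣ) : Cl (r + 4) F) =
      - (((cL (r + 4) F) ((scSp h2).psi Sw.one (WW 0 1 * WW 0 1)) : (Cl (r + 4) F)ˣ) : Cl (r + 4) F) := by
  have n01' : (0 : Fin (r + 4)) ≠ 1 := n01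
  have hc := cl4_base (r := r) (F := F)
  obtain ⟨r1, r2, r3, r4⟩ := hc.rels
  obtain ⟨r1', r2', r3', r4'⟩ := hc.flip.rels
  have hS := hc.S_sum
  rw [map_mul, map_mul, map_mul, map_mul, Units.val_mul, Units.val_mul, cL_W h2 _ n01', cL_W h2 _ n01', sg_inl_same,
    sg_inl_ne n01'.symm]
  show ((1 + (gn (.inr 0) * gn (.inr 1) : Cl (r + 4) F)) * (1 - gn (.inl 1) * gn (.inl 0)) *
        (1 + gn (.inr 0) * gn (.inr 1))) *
      ((1 + gn (.inr 0) * gn (.inr 1)) * (1 - gn (.inl 1) * gn (.inl 0)) * (1 + gn (.inr 0) * gn (.inr 1))) =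
    -(((1 + (gn (.inl 0) * gn (.inr 1) : Cl (r + 4) F)) * (1 - gn (.inl 1) * gn (.inr 0)) *
        (1 + gn (.inl 0) * gn (.inr 1))) *
      ((1 + gn (.inl 0) * gn (.inr 1)) * (1 - gn (.inl 1) * gn (.inr 0)) * (1 + gn (.inl 0) * gn (.inr 1))))
  rw [w_sq r1 r2 r3 r4, w_sq r1' r2' r3' r4']
  have e : (gn (.inr 0) * gn (.inr 1) * (gn (.inl 1) * gn (.inl 0)) + gn (.inl 1) * gn (.inl 0) * (gn (.inr 0) * gn (.inr 1)) : Cl (r + 4) F) =
      1 - (gn (.inl 0) * gn (.inr 1) * (gn (.inl 1) * gn (.inr 0)) + gn (.inl 1) * gn (.inr 0) * (gn (.inl 0) * gn (.inr 1))) :=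
    eq_sub_of_add_eq' hS
  rw [e]
  noncomm_ring

theorem WW_sq_dg (r : ℕ) (F : Type*) [Field F] {d2 : Fin (r + 4) → F} (h0 : d2 0 = -1) (h1 : d2 1 = -1)
    (h3 : ∀ a, a ≠ 0 → a ≠ 1 → d2 a = 1) (hd2 : ∏ a, d2 a = 1) :
    WW 0 1 * WW 0 1 = (dg d2 hd2 : SpecialLinearGroup (Fin (r + 4)) F) := by
  have n01' : (0 : Fin (r + 4)) ≠ 1 := n01
  have m0 := isMono_WW (F := F) n01'
  have m2 := m0.mul m0
  apply Subtype.ext
  ext x y
  rw [m2.2, dg_coe, Equiv.swap_mul_self, diagonal_apply]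
  show (if x = y then _ else _) = _
  by_cases hxy : x = y
  · subst hxy
    rw [if_pos rfl, if_pos rfl]
    by_cases h0' : x = 0
    · subst h0'
      simp [h0, n01'.symm]
    by_cases h1' : x = 1
    · subst h1'
      simp [h1, n01'.symm, n01']
    simp [h0', h1', swap_apply_of_ne_of_ne h0' h1', h3 x h0' h1']
  · rw [if_neg hxy, if_neg hxy]

/-- The twisted Levi lifts agree on the image of the square of a Weyl element. -/
theorem lvP_D :
    (lvP (sg 0) (WW 0 1 * WW 0 1) : GL Ipr F) = lvP 1 (WW 0 1 * WW 0 1) := by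
  have n01' : (0 : Fin (r + 4)) ≠ 1 := n01
  let d2 : Fin (r + 4) → F := fun a => if a = 0 then -1 else if a = 1 then -1 else 1
  have hd2 : ∏ a, d2 a = 1 := by
    rw [Finset.prod_eq_mul 0 1 n01']
    · simp only [d2, if_true, if_neg n01'.symm]
      ring
    · intro a _ ha
      simp only [d2, if_neg ha.1, if_neg ha.2]
    · simp
    · simp
  rw [WW_sq_dg r F (d2 := d2) (by simp [d2]) (by simp [d2, n01'.symm]) (fun a h h' => by simp [d2, h, h']) hd2]
  apply OmegaPlus.gl_ext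
  intro k
  rw [lvP_dg, lvP_dg, sg_inv]
  congr 1
  rcases k with a | a
  · by_cases h0 : a = 0
    · subst h0
      rw [sg_inl_same]
      simp [d2]
    · rw [sg_inl_ne h0]
      rfl
  · by_cases h0 : a = 0
    · subst h0
      rw [sg_inr_same]
      simp [d2]
    · rw [sg_inr_ne h0]
      rfl

/-- The kernel element of the spin group. -/
theorem spin_main (h2 : (2 : F) ≠ 0) : ∃ m : Sp (r + 4) F, tSp (r + 4) F m = 1 ∧ m ≠ 1 ∧
    ∀ i : F, i * i = -1 → Odd (r + 4) → ∃ e : Sp (r + 4) F, (tSp (r + 4) F e : GL Ipr F) = -1 ∧ e * e = m := by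
  set C := scSp (r := r) h2 with hC
  set D : SpecialLinearGroup (Fin (r + 4)) F := WW 0 1 * WW 0 1 with hD
  refine ⟨C.psi (Sw.sg 0) D * (C.psi Sw.one D)⁻¹, ?_, ?_, ?_⟩
  · apply Subtype.ext
    show C.σ (C.psi (Sw.sg 0) D * (C.psi Sw.one D)⁻¹) = 1
    rw [map_mul, map_inv, C.psi_spec, C.psi_spec, hD, lvP_D, mul_inv_cancel]
  · intro h1
    have h3 : C.psi (Sw.sg 0) D = C.psi Sw.one D := by
      rwa [mul_inv_eq_one] at h1
    have h4 := w_sq_flip (r := r) h2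
    rw [← hC, ← hD, h3] at h4
    -- `w = -w` for a unit
    set w := (cL (r + 4) F (C.psi Sw.one D)) with hw
    have h5 : (w : Cl (r + 4) F) + w = 0 := by
      nth_rewrite 1 [h4]
      rw [neg_add_cancel]
    have h6 : (2 : F) • (w : Cl (r + 4) F) = 0 := by
      rw [two_smul, h5]
    have h7 := (smul_eq_zero.mp h6).resolve_left h2
    haveI := nontrivial_cl (n := r + 4) h2
    exact w.ne_zero h7
  · intro i hi ho
    have hp : commutator (Sp (r + 4) F) = ⊤ := stem_perfect _ (tSp_stem (by omega)) (Om_perfect (by omega))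
    exact C.odd_lift hp hi ho (m := C.psi (Sw.sg 0) D * (C.psi Sw.one D)⁻¹)
      (by rw [map_mul, map_inv, C.psi_spec, C.psi_spec, hD, lvP_D, mul_inv_cancel]) (by rw [← hD]; group)

end Cfsg.Agent.Lib.SpinD
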